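import Mathlib.Analysis.Polynomial.Basic
import Mathlib.Algebra.Group.ForwardDiff
import Mathlib.Topology.Instances.Rat
import Mathlib.Algebra.Polynomial.Eval.Degree

set_option autoImplicit false

namespace Groth.Agent.H17.HS

open Polynomial Filter

/-- comparison of degrees from eventual inequality along the naturals -/
theorem natDegree_le_of_eventually_le (P Q : ℚ[X])
    (hP : ∃ N : ℕ, ∀ n : ℕ, N ≤ n → 0 ≤ P.eval (n : ℚ))
    (hPQ : ∃ N : ℕ, ∀ n : ℕ, N ≤ n → P.eval (n : ℚ) ≤ Q.eval (n : ℚ)) :
    P.natDegree ≤ Q.natDegree := by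
  by_contra hlt
  push Not at hlt
  have hPdeg : 0 < P.natDegree := by omega
  have hP0 : P ≠ 0 := by
    rintro rfl
    simp at hPdeg
  have hdegP : 0 < P.degree := natDegree_pos_iff_degree_pos.mp hPdeg
  have hnat : Tendsto (fun n : ℕ => (n : ℚ)) atTop atTop := tendsto_natCast_atTop_atTop
  have hlc : 0 ≤ P.leadingCoeff := by
    by_contra hneg
    push Not at hneg
    have h1 := (P.tendsto_atBot_of_leadingCoeff_nonpos hdegP hneg.le).comp hnat
    obtain ⟨N, hN⟩ := hP
    have h2 := (h1.eventually (eventually_lt_atBot (0 : ℚ))).and (eventually_ge_atTop N)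
    obtain ⟨n, hn1, hn2⟩ := h2.exists
    exact absurd (hN n hn2) (not_le.mpr hn1)
  have hdeglt : Q.degree < P.degree := degree_lt_degree hlt
  have hR : (P - Q).degree = P.degree := degree_sub_eq_left_of_degree_lt hdeglt
  have hRlc : (P - Q).leadingCoeff = P.leadingCoeff := leadingCoeff_sub_of_degree_lt hdeglt
  have h1 := ((P - Q).tendsto_atTop_of_leadingCoeff_nonneg (hR ▸ hdegP) (hRlc ▸ hlc)).comp hnat
  obtain ⟨N, hN⟩ := hPQ
  have h2 := (h1.eventually (eventually_gt_atTop (0 : ℚ))).and (eventually_ge_atTop N)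
  obtain ⟨n, hn1, hn2⟩ := h2.exists
  have := hN n hn2
  simp only [Function.comp_apply, eval_sub] at hn1
  linarith

/-- the difference polynomial -/
noncomputable def diff (P : ℚ[X]) : ℚ[X] := P.comp (X + 1) - P

theorem eval_diff (P : ℚ[X]) (x : ℚ) : (diff P).eval x = P.eval (x + 1) - P.eval x := by
  simp [diff, eval_comp]

theorem natDegree_comp_X_add_C (P : ℚ[X]) (c : ℚ) : (P.comp (X + C c)).natDegree = P.natDegree := by
  rw [natDegree_comp, natDegree_X_add_C, mul_one]

theorem natDegree_diff_lt (P : ℚ[X]) (hP : 0 < P.natDegree) : (diff P).natDegree < P.natDegree := by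
  have hP0 : P ≠ 0 := by
    rintro rfl
    simp at hP
  have h1 : (P.comp (X + 1)).natDegree = P.natDegree := by
    have := natDegree_comp_X_add_C P 1
    simpa using this
  have hc0 : P.comp (X + 1) ≠ 0 := by
    intro h
    rw [h] at h1
    simp at h1
    omega
  have hlc : (P.comp (X + 1)).leadingCoeff = P.leadingCoeff := by
    have : (X + 1 : ℚ[X]).natDegree ≠ 0 := by
      have := natDegree_X_add_C (1 : ℚ)
      simp at this
      rw [this]; exact one_ne_zero
    rw [leadingCoeff_comp this]
    have h2 : (X + 1 : ℚ[X]).leadingCoeff = 1 := by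
      have := leadingCoeff_X_add_C (1 : ℚ)
      simpa using this
    rw [h2, one_pow, mul_one]
  have hdeg : (P.comp (X + 1)).degree = P.degree := by
    rw [degree_eq_natDegree hc0, degree_eq_natDegree hP0, h1]
  have := degree_sub_lt_left hdeg hc0 hlc
  by_cases hd0 : diff P = 0
  · rw [hd0]; simpa using hP
  · have h3 : (diff P).degree < (P.comp (X + 1)).degree := this
    rw [degree_eq_natDegree hd0, degree_eq_natDegree hc0, h1] at h3
    exact_mod_cast h3

theorem natDegree_shift_sub_lt (P : ℚ[X]) (c : ℚ) (hP : 0 < P.natDegree) :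
    (P.comp (X + C c) - P).natDegree < P.natDegree := by
  have hP0 : P ≠ 0 := by
    rintro rfl
    simp at hP
  have h1 : (P.comp (X + C c)).natDegree = P.natDegree := natDegree_comp_X_add_C P c
  have hc0 : P.comp (X + C c) ≠ 0 := by
    intro h
    rw [h] at h1
    simp at h1
    omega
  have hlc : (P.comp (X + C c)).leadingCoeff = P.leadingCoeff := by
    have : (X + C c : ℚ[X]).natDegree ≠ 0 := by
      rw [natDegree_X_add_C]; exact one_ne_zero
    rw [leadingCoeff_comp this, leadingCoeff_X_add_C, one_pow, mul_one]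
  have hdeg : (P.comp (X + C c)).degree = P.degree := by
    rw [degree_eq_natDegree hc0, degree_eq_natDegree hP0, h1]
  have := degree_sub_lt_left hdeg hc0 hlc
  by_cases hd0 : P.comp (X + C c) - P = 0
  · rw [hd0]; simpa using hP
  · have h3 : (P.comp (X + C c) - P).degree < (P.comp (X + C c)).degree := this
    rw [degree_eq_natDegree hd0, degree_eq_natDegree hc0, h1] at h3
    exact_mod_cast h3

theorem shift_sub_eq_zero (P : ℚ[X]) (c : ℚ) (hP : P.natDegree = 0) :
    P.comp (X + C c) - P = 0 := by
  rw [natDegree_eq_zero] at hP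
  obtain ⟨a, rfl⟩ := hP
  simp

theorem diff_eq_zero_of_natDegree_eq_zero (P : ℚ[X]) (hP : P.natDegree = 0) : diff P = 0 := by
  rw [natDegree_eq_zero] at hP
  obtain ⟨c, rfl⟩ := hP
  simp [diff]

/-- exactness of the degree drop -/
theorem natDegree_le_natDegree_diff_add_one (P : ℚ[X]) : P.natDegree ≤ (diff P).natDegree + 1 := by
  by_contra hlt
  push Not at hlt
  have hP : 0 < P.natDegree := by omega
  have hP0 : P ≠ 0 := by
    rintro rfl
    simp at hP
  obtain ⟨d, hd⟩ : ∃ d, P.natDegree = d + 1 := ⟨P.natDegree - 1, by omega⟩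
  have h1 := P.fwdDiff_iter_degree_eq_factorial
  rw [hd, Function.iterate_succ_apply] at h1
  have h2 : fwdDiff (1 : ℚ) P.eval = (diff P).eval := by
    funext x
    simp [fwdDiff, eval_diff]
  rw [h2] at h1
  have h3 : (diff P).natDegree < d := by omega
  rw [Polynomial.fwdDiff_iter_eq_zero_of_degree_lt h3] at h1
  have h4 := congrFun h1 0
  simp only [Pi.zero_apply, Pi.smul_apply, smul_eq_mul] at h4
  have h5 : P.leadingCoeff ≠ 0 := leadingCoeff_ne_zero.mpr hP0
  have h6 : ((d + 1).factorial : ℚ) ≠ 0 := by exact_mod_cast Nat.factorial_ne_zero _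
  rcases mul_eq_zero.mp h4.symm with h | h
  · exact h5 h
  · apply h6
    simpa using h

theorem diff_add (P Q : ℚ[X]) : diff (P + Q) = diff P + diff Q := by
  simp only [diff, add_comp]; ring

/-- surjectivity of the difference operator -/
theorem exists_diff_eq (Q : ℚ[X]) : ∃ P : ℚ[X], diff P = Q := by
  induction h : Q.natDegree using Nat.strong_induction_on generalizing Q with
  | _ d ih =>
    by_cases hQ0 : Q = 0
    · exact ⟨0, by simp [diff, hQ0]⟩
    -- kill the leading term with `X^(d+1)`
    set c : ℚ := Q.leadingCoeff / (d + 1) with hc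
    let T : ℚ[X] := C c * X ^ (d + 1)
    have hc0 : c ≠ 0 := by
      apply div_ne_zero (leadingCoeff_ne_zero.mpr hQ0)
      positivity
    have hT : T.natDegree = d + 1 := by
      simp [T, natDegree_C_mul_X_pow _ _ hc0]
    have hdT : (diff T).natDegree ≤ d := by
      have := natDegree_diff_lt T (by omega)
      omega
    have hcoeff : (diff T).coeff d = Q.leadingCoeff := by
      have : diff T = C c * (X + 1) ^ (d + 1) - C c * X ^ (d + 1) := by
        simp [diff, T, mul_comp]
      rw [this, coeff_sub, coeff_C_mul, coeff_C_mul, coeff_X_add_one_pow, coeff_X_pow,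
        if_neg (by omega), Nat.choose_succ_self_right, hc]
      push_cast
      field_simp
      ring
    set Q' := Q - diff T with hQ'
    have hQ'deg : Q'.natDegree ≤ d := by
      refine (natDegree_sub_le _ _).trans ?_
      rw [h]; simpa using hdT
    have hQ'c : Q'.coeff d = 0 := by
      rw [hQ', coeff_sub, hcoeff, ← h]; simp
    by_cases hQ'0 : Q' = 0
    · refine ⟨T, ?_⟩
      rw [hQ', sub_eq_zero] at hQ'0
      exact hQ'0.symm
    · have hlt : Q'.natDegree < d := by
        rcases lt_or_eq_of_le hQ'deg with hlt | heq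
        · exact hlt
        · exfalso
          apply hQ'0
          rw [← leadingCoeff_eq_zero, leadingCoeff, heq]
          exact hQ'c
      obtain ⟨P', hP'⟩ := ih _ hlt Q' rfl
      refine ⟨P' + T, ?_⟩
      rw [diff_add, hP', hQ']
      ring

/-- a function whose difference is eventually polynomial is eventually polynomial -/
theorem exists_poly_of_diff (f : ℕ → ℚ) (Q : ℚ[X]) (N : ℕ)
    (h : ∀ n, N ≤ n → f (n + 1) - f n = Q.eval (n : ℚ)) :
    ∃ P : ℚ[X], ∀ n, N ≤ n → f n = P.eval (n : ℚ) := by
  obtain ⟨P₀, hP₀⟩ := exists_diff_eq Q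
  refine ⟨P₀ + C (f N - P₀.eval (N : ℚ)), ?_⟩
  intro n hn
  induction n, hn using Nat.le_induction with
  | base => simp
  | succ n hn ih =>
    have h1 := h n hn
    have h2 := eval_diff P₀ (n : ℚ)
    rw [hP₀] at h2
    simp only [eval_add, eval_C] at ih ⊢
    push_cast
    linarith

end Groth.Agent.H17.HS
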