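import Mathlib.RingTheory.Length
import Mathlib.RingTheory.Noetherian.Basic
import Mathlib.RingTheory.Adjoin.Basic
import Groth.Agent.H17.HS.Poly

set_option autoImplicit false

namespace Groth.Agent.H17.HS

open Polynomial

universe v

variable {A : Type*} [CommRing A]

/-- an elementary formulation of an `ℕ`-grading of a module by submodules -/
structure IsGrading {N : Type*} [AddCommGroup N] [Module A N] (𝒩 : ℕ → Submodule A N) : Prop where
  exists_sum : ∀ y : N, ∃ (m : ℕ) (f : ℕ → N), (∀ n, f n ∈ 𝒩 n) ∧ y = ∑ n ∈ Finset.range m, f n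
  unique : ∀ (m : ℕ) (f : ℕ → N), (∀ n, f n ∈ 𝒩 n) → ∑ n ∈ Finset.range m, f n = 0 →
    ∀ n < m, f n = 0

section basic

variable {N : Type*} [AddCommGroup N] [Module A N] {𝒩 : ℕ → Submodule A N}

theorem sum_range_ite_lt (f : ℕ → N) {m M : ℕ} (h : m ≤ M) :
    ∑ k ∈ Finset.range M, (if k < m then f k else 0) = ∑ k ∈ Finset.range m, f k := by
  rw [← Finset.sum_filter]
  congr 1
  ext k
  simp only [Finset.mem_filter, Finset.mem_range]
  omega

theorem IsGrading.eq_of_sum_eq (h : IsGrading 𝒩) {m m' : ℕ} {f g : ℕ → N}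
    (hf : ∀ n, f n ∈ 𝒩 n) (hg : ∀ n, g n ∈ 𝒩 n)
    (hsum : ∑ n ∈ Finset.range m, f n = ∑ n ∈ Finset.range m', g n) (k : ℕ) :
    (if k < m then f k else 0) = (if k < m' then g k else 0) := by
  set M := max m m' + k + 1 with hM
  have h1 := h.unique M (fun k => (if k < m then f k else 0) - (if k < m' then g k else 0))
    (fun n => by
      apply Submodule.sub_mem
      · split_ifs
        · exact hf n
        · exact Submodule.zero_mem _
      · split_ifs
        · exact hg n
        · exact Submodule.zero_mem _)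
    (by
      rw [Finset.sum_sub_distrib, sum_range_ite_lt f (by omega), sum_range_ite_lt g (by omega),
        hsum, sub_self]) k (by omega)
  exact sub_eq_zero.mp h1

end basic

section step

variable {B : Type*} [CommRing B] [Algebra A B] {N : Type v} [AddCommGroup N] [Module A N]
  [Module B N] [IsScalarTower A B N]

/-- the kernel of multiplication by `a` -/
def kerSub (N : Type v) [AddCommGroup N] [Module B N] (a : B) : Submodule B N :=
  LinearMap.ker (LinearMap.lsmul B N a)

/-- the image of multiplication by `a` -/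
def ranSub (N : Type v) [AddCommGroup N] [Module B N] (a : B) : Submodule B N :=
  LinearMap.range (LinearMap.lsmul B N a)

theorem mem_kerSub {a : B} {y : N} : y ∈ kerSub N a ↔ a • y = 0 := by
  simp [kerSub]

theorem mem_ranSub {a : B} {y : N} : y ∈ ranSub N a ↔ ∃ z : N, a • z = y := by
  simp [ranSub]

/-- induced grading on the kernel -/
def kerGr (a : B) (𝒩 : ℕ → Submodule A N) (n : ℕ) : Submodule A (kerSub N a) :=
  (𝒩 n).comap ((kerSub N a).subtype.restrictScalars A)

/-- induced grading on the cokernel -/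
def cokGr (a : B) (𝒩 : ℕ → Submodule A N) (n : ℕ) : Submodule A (N ⧸ ranSub N a) :=
  (𝒩 n).map ((ranSub N a).mkQ.restrictScalars A)

variable {a : B} {𝒩 : ℕ → Submodule A N}

omit [Algebra A B] [IsScalarTower A B N] in
theorem smul_decomp (h : IsGrading 𝒩) (ha : ∀ n, ∀ y ∈ 𝒩 n, a • y ∈ 𝒩 (n + 1)) {m : ℕ}
    {y : ℕ → N} (hy : ∀ n, y n ∈ 𝒩 n) {z : N} (hz : a • z = ∑ n ∈ Finset.range m, y n) :
    ∀ n < m, ∃ w, (∀ k, n = k + 1 → w ∈ 𝒩 k) ∧ y n = a • w := by
  obtain ⟨m', f, hf, hzf⟩ := h.exists_sum z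
  let g' : ℕ → N := fun k => match k with
    | 0 => 0
    | k + 1 => a • f k
  have hg' : ∀ n, g' n ∈ 𝒩 n := by
    intro n
    cases n with
    | zero => exact Submodule.zero_mem _
    | succ k => exact ha k _ (hf k)
  have hsum : ∑ k ∈ Finset.range (m' + 1), g' k = a • z := by
    rw [Finset.sum_range_succ', hzf, Finset.smul_sum]
    simp [g']
  intro n hn
  have := h.eq_of_sum_eq hy hg' (hz.symm.trans hsum.symm) n
  rw [if_pos hn] at this
  cases n with
  | zero =>
    refine ⟨0, fun k hk => by omega, ?_⟩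
    rw [this]
    simp [g']
  | succ k =>
    by_cases hk : k + 1 < m' + 1
    · rw [if_pos hk] at this
      exact ⟨f k, fun k' hk' => by
        have : k = k' := by omega
        subst this
        exact hf k, this⟩
    · rw [if_neg hk] at this
      exact ⟨0, fun k' _ => Submodule.zero_mem _, by rw [this, smul_zero]⟩

theorem isGrading_kerGr (h : IsGrading 𝒩) (ha : ∀ n, ∀ y ∈ 𝒩 n, a • y ∈ 𝒩 (n + 1)) :
    IsGrading (kerGr a 𝒩) := by
  classical
  constructor
  · intro y
    obtain ⟨m, f, hf, hyf⟩ := h.exists_sum y.1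
    -- each `a • f n` vanishes
    have hay : a • (y.1 : N) = 0 := mem_kerSub.mp y.2
    let g' : ℕ → N := fun k => match k with
      | 0 => 0
      | k + 1 => a • f k
    have hg' : ∀ n, g' n ∈ 𝒩 n := by
      intro n
      cases n with
      | zero => exact Submodule.zero_mem _
      | succ k => exact ha k _ (hf k)
    have hsum : ∑ k ∈ Finset.range (m + 1), g' k = 0 := by
      rw [Finset.sum_range_succ', ← hay, hyf, Finset.smul_sum]
      simp [g']
    have hzero : ∀ k < m, a • f k = 0 := fun k hk => h.unique (m + 1) g' hg' hsum (k + 1) (by omega)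
    let f'' : ℕ → kerSub N a := fun n =>
      if hn : a • f n = 0 then ⟨f n, mem_kerSub.mpr hn⟩ else 0
    refine ⟨m, f'', ?_, ?_⟩
    · intro n
      change ((f'' n : kerSub N a) : N) ∈ 𝒩 n
      by_cases hn : a • f n = 0
      · simp only [f'', dif_pos hn]; exact hf n
      · simp only [f'', dif_neg hn]; exact Submodule.zero_mem _
    · apply Subtype.ext
      rw [hyf, Submodule.coe_sum]
      apply Finset.sum_congr rfl
      intro n hn
      simp only [f'', dif_pos (hzero n (Finset.mem_range.mp hn))]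
  · intro m f hf hsum n hn
    apply Subtype.ext
    have := h.unique m (fun n => ((f n : kerSub N a) : N)) hf (by
      have := congrArg (Subtype.val) hsum
      rw [Submodule.coe_sum] at this
      simpa using this) n hn
    simpa using this

theorem isGrading_cokGr (h : IsGrading 𝒩) (ha : ∀ n, ∀ y ∈ 𝒩 n, a • y ∈ 𝒩 (n + 1)) :
    IsGrading (cokGr a 𝒩) := by
  classical
  constructor
  · intro l
    obtain ⟨y, rfl⟩ := Submodule.mkQ_surjective _ l
    obtain ⟨m, f, hf, hyf⟩ := h.exists_sum y
    refine ⟨m, fun n => (ranSub N a).mkQ (f n), fun n => ?_, ?_⟩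
    · exact Submodule.mem_map_of_mem (f := (ranSub N a).mkQ.restrictScalars A) (hf n)
    · rw [hyf, map_sum]
  · intro m f hf hsum n hn
    have hf' : ∀ n, ∃ y ∈ 𝒩 n, (ranSub N a).mkQ y = f n := fun n => by
      obtain ⟨y, hy, hy'⟩ := Submodule.mem_map.mp (hf n)
      exact ⟨y, hy, hy'⟩
    choose y hy hyf using hf'
    have hmem : ∑ n ∈ Finset.range m, y n ∈ ranSub N a := by
      rw [← Submodule.Quotient.mk_eq_zero, ← Submodule.mkQ_apply, map_sum]
      simpa [hyf] using hsum
    obtain ⟨z, hz⟩ := mem_ranSub.mp hmem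
    obtain ⟨w, -, hw⟩ := smul_decomp h ha hy hz n hn
    rw [← hyf n, hw, Submodule.mkQ_apply, Submodule.Quotient.mk_eq_zero]
    exact mem_ranSub.mpr ⟨w, rfl⟩

/-- the key additivity relation in the Hilbert–Serre induction -/
theorem length_step (h : IsGrading 𝒩) (ha : ∀ n, ∀ y ∈ 𝒩 n, a • y ∈ 𝒩 (n + 1)) (n : ℕ) :
    Module.length A (𝒩 (n + 1)) + Module.length A (kerGr a 𝒩 n) =
      Module.length A (𝒩 n) + Module.length A (cokGr a 𝒩 (n + 1)) := by
  classical
  let μ : 𝒩 n →ₗ[A] 𝒩 (n + 1) :=
    LinearMap.restrict ((LinearMap.lsmul B N a).restrictScalars A) (fun y hy => ha n y hy)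
  have hμ : ∀ y : 𝒩 n, ((μ y : 𝒩 (n + 1)) : N) = a • (y : N) := fun y => rfl
  -- first sequence
  let ι₁ : kerGr a 𝒩 n →ₗ[A] 𝒩 n :=
    LinearMap.restrict ((kerSub N a).subtype.restrictScalars A) (p := kerGr a 𝒩 n) (q := 𝒩 n)
      (fun y hy => hy)
  have hι₁ : Function.Injective ι₁ := by
    intro x y hxy
    apply Subtype.ext; apply Subtype.ext
    exact congrArg (fun t : 𝒩 n => (t : N)) hxy
  have hex₁ : Function.Exact ι₁ μ.rangeRestrict := by
    intro y
    constructor
    · intro hy
      have hy' : a • (y : N) = 0 := by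
        have := congrArg (fun t : LinearMap.range μ => ((t : 𝒩 (n + 1)) : N)) hy
        simpa [hμ] using this
      exact ⟨⟨⟨y.1, mem_kerSub.mpr hy'⟩, y.2⟩, Subtype.ext rfl⟩
    · rintro ⟨k, rfl⟩
      apply Subtype.ext; apply Subtype.ext
      change a • ((k : kerSub N a) : N) = 0
      exact mem_kerSub.mp k.1.2
  have e₁ := Module.length_eq_add_of_exact ι₁ μ.rangeRestrict hι₁ μ.surjective_rangeRestrict hex₁
  -- second sequence
  let g₂ : 𝒩 (n + 1) →ₗ[A] cokGr a 𝒩 (n + 1) :=
    LinearMap.restrict ((ranSub N a).mkQ.restrictScalars A) (p := 𝒩 (n + 1))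
      (q := cokGr a 𝒩 (n + 1)) (fun y hy => Submodule.mem_map_of_mem hy)
  have hg₂ : Function.Surjective g₂ := by
    rintro ⟨l, hl⟩
    obtain ⟨y, hy, rfl⟩ := Submodule.mem_map.mp hl
    exact ⟨⟨y, hy⟩, Subtype.ext rfl⟩
  have hex₂ : Function.Exact (LinearMap.range μ).subtype g₂ := by
    intro y
    constructor
    · intro hy
      have hy' : (y : N) ∈ ranSub N a := by
        have h2 : (ranSub N a).mkQ (y : N) = 0 := congrArg Subtype.val hy
        rwa [Submodule.mkQ_apply, Submodule.Quotient.mk_eq_zero] at h2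
      obtain ⟨z, hz⟩ := mem_ranSub.mp hy'
      have hsum : a • z = ∑ k ∈ Finset.range (n + 2), (if k = n + 1 then (y : N) else 0) := by
        rw [Finset.sum_ite_eq' (Finset.range (n + 2)) (n + 1) (fun _ => (y : N)),
          if_pos (Finset.mem_range.mpr (by omega)), hz]
      obtain ⟨w, hw, hyw⟩ := smul_decomp h ha (y := fun k => if k = n + 1 then (y : N) else 0)
        (fun k => by
          by_cases hk : k = n + 1
          · subst hk; simp
          · simp [hk]) hsum (n + 1) (by omega)
      simp only [if_true] at hyw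
      refine ⟨⟨μ ⟨w, hw n rfl⟩, ⟨_, rfl⟩⟩, ?_⟩
      apply Subtype.ext
      change a • w = y
      exact hyw.symm
    · rintro ⟨⟨_, ⟨k, rfl⟩⟩, rfl⟩
      apply Subtype.ext
      change (ranSub N a).mkQ (a • (k : N)) = 0
      rw [Submodule.mkQ_apply, Submodule.Quotient.mk_eq_zero]
      exact mem_ranSub.mpr ⟨_, rfl⟩
  have e₂ := Module.length_eq_add_of_exact (LinearMap.range μ).subtype g₂
    (Submodule.subtype_injective _) hg₂ hex₂
  rw [e₁, e₂]
  ring

theorem length_kerGr_le (n : ℕ) : Module.length A (kerGr a 𝒩 n) ≤ Module.length A (𝒩 n) := by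
  let ι₁ : kerGr a 𝒩 n →ₗ[A] 𝒩 n :=
    LinearMap.restrict ((kerSub N a).subtype.restrictScalars A) (p := kerGr a 𝒩 n) (q := 𝒩 n)
      (fun y hy => hy)
  have hι₁ : Function.Injective ι₁ := by
    intro x y hxy
    apply Subtype.ext; apply Subtype.ext
    exact congrArg (fun t : 𝒩 n => (t : N)) hxy
  exact Module.length_le_of_injective ι₁ hι₁

theorem length_cokGr_le (n : ℕ) : Module.length A (cokGr a 𝒩 n) ≤ Module.length A (𝒩 n) := by
  let g₂ : 𝒩 n →ₗ[A] cokGr a 𝒩 n :=
    LinearMap.restrict ((ranSub N a).mkQ.restrictScalars A) (p := 𝒩 n)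
      (q := cokGr a 𝒩 n) (fun y hy => Submodule.mem_map_of_mem hy)
  have hg₂ : Function.Surjective g₂ := by
    rintro ⟨l, hl⟩
    obtain ⟨y, hy, rfl⟩ := Submodule.mem_map.mp hl
    exact ⟨⟨y, hy⟩, Subtype.ext rfl⟩
  exact Module.length_le_of_surjective g₂ hg₂

end step

section main

variable {B : Type*} [CommRing B] [Algebra A B]

theorem adjoin_insert_sub_mem {S : Set B} {a p : B} (hp : p ∈ Algebra.adjoin A (insert a S)) :
    ∃ p' ∈ Algebra.adjoin A S, p - p' ∈ Ideal.span {a} := by
  induction hp using Algebra.adjoin_induction with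
  | mem x hx =>
    rcases hx with rfl | hx
    · exact ⟨0, Subalgebra.zero_mem _, by simpa using Ideal.subset_span rfl⟩
    · exact ⟨x, Algebra.subset_adjoin hx, by simp⟩
  | algebraMap r => exact ⟨algebraMap A B r, Subalgebra.algebraMap_mem _ r, by simp⟩
  | add x y _ _ hx hy =>
    obtain ⟨x', hx', hxx⟩ := hx
    obtain ⟨y', hy', hyy⟩ := hy
    refine ⟨x' + y', Subalgebra.add_mem _ hx' hy', ?_⟩
    have : x + y - (x' + y') = (x - x') + (y - y') := by ring
    rw [this]
    exact Ideal.add_mem _ hxx hyy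
  | mul x y _ _ hx hy =>
    obtain ⟨x', hx', hxx⟩ := hx
    obtain ⟨y', hy', hyy⟩ := hy
    refine ⟨x' * y', Subalgebra.mul_mem _ hx' hy', ?_⟩
    have : x * y - x' * y' = x * (y - y') + (x - x') * y' := by ring
    rw [this]
    exact Ideal.add_mem _ (Ideal.mul_mem_left _ _ hyy) (Ideal.mul_mem_right _ _ hxx)

/-- **Hilbert–Serre**: the Hilbert function of a finitely generated graded module over a ring
generated by finitely many elements of degree one is eventually polynomial. -/
theorem hilbert_serre [IsNoetherianRing B] (S : Finset B) :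
    ∀ {N : Type v} [AddCommGroup N] [Module A N] [Module B N] [IsScalarTower A B N]
      [Module.Finite B N] (J : Ideal B) (_hJ : ∀ b ∈ J, ∀ y : N, b • y = 0)
      (_hgen : ∀ b : B, ∃ p ∈ Algebra.adjoin A (S : Set B), b - p ∈ J)
      (𝒩 : ℕ → Submodule A N) (_hgr : IsGrading 𝒩)
      (_hS : ∀ b ∈ S, ∀ n, ∀ y ∈ 𝒩 n, b • y ∈ 𝒩 (n + 1))
      (_hfin : ∀ n, Module.length A (𝒩 n) ≠ ⊤),
      ∃ (P : ℚ[X]) (n₀ : ℕ), ∀ n, n₀ ≤ n →
        ((Module.length A (𝒩 n)).toNat : ℚ) = P.eval (n : ℚ) := by
  classical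
  induction S using Finset.induction_on with
  | empty =>
    intro N _ _ _ _ _ J hJ hgen 𝒩 hgr hS hfin
    have hact : ∀ (b : B) (y : N), ∃ c : A, b • y = c • y := by
      intro b y
      obtain ⟨p, hp, hbp⟩ := hgen b
      rw [Finset.coe_empty, Algebra.adjoin_empty, Algebra.mem_bot] at hp
      obtain ⟨c, rfl⟩ := hp
      refine ⟨c, ?_⟩
      have := hJ _ hbp y
      rw [sub_smul, sub_eq_zero, algebraMap_smul] at this
      exact this
    obtain ⟨T, hT⟩ := (Module.Finite.fg_top : (⊤ : Submodule B N).FG)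
    choose mf ff hff hyf using hgr.exists_sum
    set m := T.sup mf with hm
    have hall : ∀ y : N, ∃ f : ℕ → N, (∀ n, f n ∈ 𝒩 n) ∧ y = ∑ n ∈ Finset.range m, f n := by
      intro y
      have hy : y ∈ Submodule.span B (T : Set N) := hT ▸ Submodule.mem_top
      induction hy using Submodule.span_induction with
      | mem y hy =>
        refine ⟨fun n => if n < mf y then ff y n else 0, fun n => ?_, ?_⟩
        · beta_reduce
          split_ifs
          · exact hff y n
          · exact Submodule.zero_mem _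
        · rw [sum_range_ite_lt (ff y) (Finset.le_sup (f := mf) hy)]
          exact hyf y
      | zero => exact ⟨fun _ => 0, fun n => Submodule.zero_mem _, by simp⟩
      | add y z _ _ hy hz =>
        obtain ⟨f, hf, rfl⟩ := hy
        obtain ⟨g, hg, rfl⟩ := hz
        exact ⟨fun n => f n + g n, fun n => Submodule.add_mem _ (hf n) (hg n),
          Finset.sum_add_distrib.symm⟩
      | smul b y _ hy =>
        obtain ⟨f, hf, hyf'⟩ := hy
        obtain ⟨c, hc⟩ := hact b y
        refine ⟨fun n => c • f n, fun n => Submodule.smul_mem _ _ (hf n), ?_⟩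
        rw [hc, hyf', Finset.smul_sum]
    refine ⟨0, m, fun n hn => ?_⟩
    have hbot : 𝒩 n = ⊥ := by
      rw [eq_bot_iff]
      intro y hy
      obtain ⟨f, hf, hyf'⟩ := hall y
      have hsum : ∑ k ∈ Finset.range m, f k =
          ∑ k ∈ Finset.range (n + 1), (if k = n then y else 0) := by
        rw [Finset.sum_ite_eq' (Finset.range (n + 1)) n (fun _ => y),
          if_pos (Finset.mem_range.mpr (by omega)), ← hyf']
      have := hgr.eq_of_sum_eq hf (g := fun k => if k = n then y else 0) (fun k => by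
        by_cases hk : k = n
        · subst hk; simp [hy]
        · simp [hk]) hsum n
      rw [if_neg (by omega), if_pos (by omega), if_pos rfl] at this
      rw [← this]
      exact Submodule.zero_mem _
    rw [hbot, Module.length_bot]
    simp
  | insert a S' haS ih =>
    intro N _ _ _ _ _ J hJ hgen 𝒩 hgr hS hfin
    have ha : ∀ n, ∀ y ∈ 𝒩 n, a • y ∈ 𝒩 (n + 1) := hS a (Finset.mem_insert_self a S')
    haveI : IsNoetherian B N := isNoetherian_of_isNoetherianRing_of_finite B N
    set J' := J ⊔ Ideal.span {a} with hJ'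
    have hgen' : ∀ b : B, ∃ p ∈ Algebra.adjoin A (S' : Set B), b - p ∈ J' := by
      intro b
      obtain ⟨p, hp, hbp⟩ := hgen b
      rw [Finset.coe_insert] at hp
      obtain ⟨p', hp', hpp'⟩ := adjoin_insert_sub_mem hp
      refine ⟨p', hp', ?_⟩
      have : b - p' = (b - p) + (p - p') := by ring
      rw [this]
      exact Ideal.add_mem _ (Ideal.mem_sup_left hbp) (Ideal.mem_sup_right hpp')
    -- the kernel
    obtain ⟨PK, nK, hPK⟩ := ih (N := kerSub N a) J'
      (by
        intro b hb y
        obtain ⟨j, hj, c, hc, rfl⟩ := Submodule.mem_sup.mp hb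
        obtain ⟨c', rfl⟩ := Ideal.mem_span_singleton'.mp hc
        apply Subtype.ext
        have h1 : j • (y : N) = 0 := hJ j hj _
        have h2 : a • (y : N) = 0 := mem_kerSub.mp y.2
        simp [add_smul, mul_smul, h1, h2])
      hgen' (kerGr a 𝒩) (isGrading_kerGr hgr ha)
      (by
        intro b hb n y hy
        exact hS b (Finset.mem_insert_of_mem hb) n _ hy)
      (fun n => ne_top_of_le_ne_top (hfin n) (length_kerGr_le n))
    -- the cokernel
    obtain ⟨PL, nL, hPL⟩ := ih (N := N ⧸ ranSub N a) J'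
      (by
        intro b hb l
        obtain ⟨y, rfl⟩ := Submodule.mkQ_surjective _ l
        obtain ⟨j, hj, c, hc, rfl⟩ := Submodule.mem_sup.mp hb
        obtain ⟨c', rfl⟩ := Ideal.mem_span_singleton'.mp hc
        rw [← map_smul, Submodule.mkQ_apply, Submodule.Quotient.mk_eq_zero]
        rw [add_smul, hJ j hj, zero_add, mul_comm, mul_smul]
        exact mem_ranSub.mpr ⟨_, rfl⟩)
      hgen' (cokGr a 𝒩) (isGrading_cokGr hgr ha)
      (by
        intro b hb n l hl
        obtain ⟨y, hy, rfl⟩ := Submodule.mem_map.mp hl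
        have : b • ((ranSub N a).mkQ.restrictScalars A) y =
            ((ranSub N a).mkQ.restrictScalars A) (b • y) := by
          simp
        rw [this]
        exact Submodule.mem_map_of_mem (hS b (Finset.mem_insert_of_mem hb) n y hy))
      (fun n => ne_top_of_le_ne_top (hfin n) (length_cokGr_le n))
    -- the difference equation
    have hdiff : ∀ n, max nK nL ≤ n →
        ((Module.length A (𝒩 (n + 1))).toNat : ℚ) - ((Module.length A (𝒩 n)).toNat : ℚ) =
          (PL.comp (X + 1) - PK).eval (n : ℚ) := by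
      intro n hn
      have h1 := length_step hgr ha n
      have hK := hPK n (le_trans (le_max_left _ _) hn)
      have hL := hPL (n + 1) (le_trans (le_trans (le_max_right _ _) hn) (Nat.le_succ n))
      have hKfin : Module.length A (kerGr a 𝒩 n) ≠ ⊤ :=
        ne_top_of_le_ne_top (hfin n) (length_kerGr_le n)
      have hLfin : Module.length A (cokGr a 𝒩 (n + 1)) ≠ ⊤ :=
        ne_top_of_le_ne_top (hfin (n + 1)) (length_cokGr_le (n + 1))
      obtain ⟨x1, hx1⟩ := ENat.ne_top_iff_exists.mp (hfin (n + 1))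
      obtain ⟨x2, hx2⟩ := ENat.ne_top_iff_exists.mp (hfin n)
      obtain ⟨x3, hx3⟩ := ENat.ne_top_iff_exists.mp hKfin
      obtain ⟨x4, hx4⟩ := ENat.ne_top_iff_exists.mp hLfin
      rw [← hx1, ← hx2, ← hx3, ← hx4] at h1
      rw [← hx3] at hK
      rw [← hx4] at hL
      rw [← hx1, ← hx2]
      simp only [ENat.toNat_natCast] at hK hL ⊢
      have h1' : x1 + x3 = x2 + x4 := by exact_mod_cast h1
      have h1'' : (x1 : ℚ) + x3 = x2 + x4 := by exact_mod_cast h1'
      simp only [eval_sub, eval_comp, eval_add, eval_X, eval_one]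
      push_cast at hL
      rw [← hL, ← hK]
      linarith
    obtain ⟨P, hP⟩ := exists_poly_of_diff (fun n => ((Module.length A (𝒩 n)).toNat : ℚ)) _ _ hdiff
    exact ⟨P, _, hP⟩

end main

end Groth.Agent.H17.HS
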