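import Mathlib.RingTheory.Filtration
import Groth.Agent.H17.HS.Serre

set_option autoImplicit false

namespace Groth.Agent.H17.HS

open PolynomialModule
open scoped Polynomial

universe u

variable {A M : Type u} [CommRing A] [AddCommGroup M] [Module A M] (I : Ideal A)

/-- the Rees algebra as a type with clean instances -/
def RA : Type u := ↥(reesAlgebra I)

noncomputable instance : CommRing (RA I) := (reesAlgebra I).toCommRing
noncomputable instance : Algebra A (RA I) := (reesAlgebra I).algebra
instance [IsNoetherianRing A] : IsNoetherianRing (RA I) :=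
  (inferInstance : IsNoetherianRing (reesAlgebra I))
noncomputable instance : Module (RA I) (PolynomialModule A M) :=
  (inferInstance : Module (reesAlgebra I) (PolynomialModule A M))
instance : IsScalarTower A (RA I) (PolynomialModule A M) :=
  (inferInstance : IsScalarTower A (reesAlgebra I) (PolynomialModule A M))

variable {I}

/-- the Rees module over `RA` -/
noncomputable def submod (F : I.Filtration M) : Submodule (RA I) (PolynomialModule A M) where
  carrier := { f | ∀ i, f.coeff i ∈ F.N i }
  add_mem' hf hg i := Submodule.add_mem _ (hf i) (hg i)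
  zero_mem' _ := Submodule.zero_mem _
  smul_mem' r _ hf := F.submodule.smul_mem' r hf

theorem mem_submod (F : I.Filtration M) (f : PolynomialModule A M) :
    f ∈ submod F ↔ ∀ i, f.coeff i ∈ F.N i := Iff.rfl

theorem submod_fg (F : I.Filtration M) (h : F.submodule.FG) : (submod F).FG := by
  obtain ⟨T, hT⟩ := h
  refine ⟨T, le_antisymm ?_ ?_⟩
  · rw [Submodule.span_le]
    intro t ht
    have : t ∈ F.submodule := hT ▸ Submodule.subset_span ht
    exact this
  · intro f hf
    have hf' : f ∈ Submodule.span (reesAlgebra I) (T : Set (PolynomialModule A M)) := by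
      rw [hT]; exact hf
    clear hf
    induction hf' using Submodule.span_induction with
    | mem x hx => exact Submodule.subset_span hx
    | zero => exact Submodule.zero_mem _
    | add x y _ _ hx hy => exact Submodule.add_mem _ hx hy
    | smul r x _ hx => exact Submodule.smul_mem _ (r : RA I) hx

/-- the shifted filtration -/
def shiftFil (F : I.Filtration M) : I.Filtration M where
  N n := F.N (n + 1)
  mono n := F.mono (n + 1)
  smul_le n := F.smul_le (n + 1)

/-- the submodule `⨁ F_{n+1}` of the Rees module `⨁ F_n` -/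
noncomputable def grSub (F : I.Filtration M) : Submodule (RA I) (submod F) :=
  (submod (shiftFil F)).comap (submod F).subtype

/-- the associated graded module -/
abbrev Gr (F : I.Filtration M) := (submod F) ⧸ grSub F

theorem single_mem_submod (F : I.Filtration M) (n : ℕ) {m : M} (hm : m ∈ F.N n) :
    single A n m ∈ submod F := by
  intro i
  rw [coeff_single, Finsupp.single_apply]
  split_ifs with h
  · exact h ▸ hm
  · exact Submodule.zero_mem _

/-- the inclusion of the `n`-th graded piece -/
noncomputable def compMap (F : I.Filtration M) (n : ℕ) : F.N n →ₗ[A] Gr F where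
  toFun m := (grSub F).mkQ ⟨single A n m.1, single_mem_submod F n m.2⟩
  map_add' x y := by
    rw [← map_add]
    congr 1
    apply Subtype.ext
    simp [single_add]
  map_smul' c x := by
    rw [RingHom.id_apply, ← LinearMap.map_smul_of_tower]
    congr 1
    apply Subtype.ext
    simp [single_smul]

theorem compMap_eq_zero_iff (F : I.Filtration M) (n : ℕ) (m : F.N n) :
    compMap F n m = 0 ↔ (m : M) ∈ F.N (n + 1) := by
  change (grSub F).mkQ _ = 0 ↔ _
  rw [Submodule.mkQ_apply, Submodule.Quotient.mk_eq_zero]
  change single A n (m : M) ∈ submod (shiftFil F) ↔ _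
  constructor
  · intro h
    have := h n
    simpa [shiftFil] using this
  · intro h
    exact single_mem_submod (shiftFil F) n h

/-- the grading on `Gr` -/
noncomputable def grPiece (F : I.Filtration M) (n : ℕ) : Submodule A (Gr F) :=
  LinearMap.range (compMap F n)

theorem sum_single_eq (f : PolynomialModule A M) (m : ℕ) (hm : ∀ k, m ≤ k → f.coeff k = 0) :
    ∑ n ∈ Finset.range m, single A n (f.coeff n) = f := by
  apply coeff_injective
  ext k
  rw [coeff_sum, Finsupp.finsetSum_apply]
  simp only [coeff_single, Finsupp.single_apply]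
  rw [Finset.sum_ite_eq' (Finset.range m) k (fun n => f.coeff n)]
  split_ifs with h
  · rfl
  · exact (hm k (by simpa using h)).symm

theorem isGrading_grPiece (F : I.Filtration M) : IsGrading (grPiece F) := by
  classical
  constructor
  · intro y
    obtain ⟨⟨f, hf⟩, rfl⟩ := Submodule.mkQ_surjective _ y
    let m := f.coeff.support.sup id + 1
    have hm : ∀ k, m ≤ k → f.coeff k = 0 := by
      intro k hk
      by_contra hne
      have : k ∈ f.coeff.support := Finsupp.mem_support_iff.mpr hne
      have := Finset.le_sup (f := id) this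
      simp only [id, m] at this hk
      omega
    refine ⟨m, fun n => compMap F n ⟨f.coeff n, hf n⟩, fun n => ⟨_, rfl⟩, ?_⟩
    simp only [compMap, LinearMap.coe_mk, AddHom.coe_mk]
    rw [← map_sum]
    congr 1
    apply Subtype.ext
    rw [Submodule.coe_sum]
    exact (sum_single_eq f m hm).symm
  · intro m f hf hsum n hn
    choose g hg using hf
    have hsum' : (grSub F).mkQ (∑ n ∈ Finset.range m,
        (⟨single A n (g n).1, single_mem_submod F n (g n).2⟩ : submod F)) = 0 := by
      rw [map_sum, ← hsum]
      apply Finset.sum_congr rfl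
      intro k _
      rw [← hg k]
      rfl
    rw [Submodule.mkQ_apply, Submodule.Quotient.mk_eq_zero] at hsum'
    have h1 : ∑ n ∈ Finset.range m, single A n ((g n : F.N n) : M) ∈ submod (shiftFil F) := by
      have : ((∑ n ∈ Finset.range m,
        (⟨single A n (g n).1, single_mem_submod F n (g n).2⟩ : submod F) : submod F) :
          PolynomialModule A M) ∈ submod (shiftFil F) := hsum'
      rwa [Submodule.coe_sum] at this
    have h2 := h1 n
    rw [coeff_sum, Finsupp.finsetSum_apply] at h2
    simp only [coeff_single, Finsupp.single_apply] at h2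
    rw [Finset.sum_ite_eq' (Finset.range m) n (fun k => ((g k : F.N k) : M)),
      if_pos (Finset.mem_range.mpr hn)] at h2
    rw [← hg n]
    exact (compMap_eq_zero_iff F n (g n)).mpr h2

/-- elements of `RA` -/
def RA.mk (p : A[X]) (hp : p ∈ reesAlgebra I) : RA I := ⟨p, hp⟩

/-- underlying polynomial -/
def RA.val (b : RA I) : A[X] := Subtype.val b

theorem RA.val_mk (p : A[X]) (hp : p ∈ reesAlgebra I) : (RA.mk p hp).val = p := rfl

theorem RA.ext {b b' : RA I} (h : b.val = b'.val) : b = b' := Subtype.ext h

theorem RA.smul_def (b : RA I) (f : PolynomialModule A M) : b • f = b.val • f := rfl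

theorem RA.val_add (b b' : RA I) : (b + b').val = b.val + b'.val := rfl
theorem RA.val_mul (b b' : RA I) : (b * b').val = b.val * b'.val := rfl
theorem RA.val_algebraMap (r : A) : (algebraMap A (RA I) r).val = Polynomial.C r := rfl

open Classical in
/-- degree-one generators -/
noncomputable def gen (I : Ideal A) (a : A) : RA I :=
  if h : a ∈ I then RA.mk (Polynomial.monomial 1 a)
    (reesAlgebra.monomial_mem.mpr (by simpa using h)) else 0

theorem gen_val {a : A} (h : a ∈ I) : (gen I a).val = Polynomial.monomial 1 a := by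
  simp [gen, h, RA.val_mk]

open Classical in
theorem adjoin_gen_eq_top {s : Finset A} (hs : Ideal.span (s : Set A) = I) (b : RA I) :
    b ∈ Algebra.adjoin A ((s.image (gen I) : Finset (RA I)) : Set (RA I)) := by
  classical
  have hsI : ∀ a ∈ s, a ∈ I := fun a ha => hs ▸ Ideal.subset_span ha
  have h1 : Algebra.adjoin A ((Polynomial.monomial 1 : A →ₗ[A] A[X]) '' (s : Set A)) =
      reesAlgebra I := by
    rw [← adjoin_monomial_eq_reesAlgebra, ← hs]
    change _ = Algebra.adjoin A
      (Submodule.map (Polynomial.monomial 1 : A →ₗ[A] A[X]) (Submodule.span A ↑s) : Set A[X])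
    rw [Submodule.map_span, Algebra.adjoin_span]
  have h2 : ∀ p ∈ Algebra.adjoin A ((Polynomial.monomial 1 : A →ₗ[A] A[X]) '' (s : Set A)),
      ∃ b' ∈ Algebra.adjoin A ((s.image (gen I) : Finset (RA I)) : Set (RA I)), b'.val = p := by
    intro p hp
    induction hp using Algebra.adjoin_induction with
    | mem x hx =>
      obtain ⟨a, ha, rfl⟩ := hx
      exact ⟨gen I a, Algebra.subset_adjoin (by
        rw [Finset.coe_image]; exact Set.mem_image_of_mem _ ha), gen_val (hsI a ha)⟩
    | algebraMap r => exact ⟨algebraMap A (RA I) r, Subalgebra.algebraMap_mem _ r, rfl⟩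
    | add x y _ _ hx hy =>
      obtain ⟨x', hx', rfl⟩ := hx
      obtain ⟨y', hy', rfl⟩ := hy
      exact ⟨x' + y', Subalgebra.add_mem _ hx' hy', rfl⟩
    | mul x y _ _ hx hy =>
      obtain ⟨x', hx', rfl⟩ := hx
      obtain ⟨y', hy', rfl⟩ := hy
      exact ⟨x' * y', Subalgebra.mul_mem _ hx' hy', rfl⟩
  have hb : b.val ∈ reesAlgebra I := Subtype.property b
  rw [← h1] at hb
  obtain ⟨b', hb', hbb'⟩ := h2 _ hb
  rw [← RA.ext hbb']
  exact hb'

theorem gen_smul_mem (F : I.Filtration M) {a : A} (ha : a ∈ I) (n : ℕ) (y : Gr F)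
    (hy : y ∈ grPiece F n) : gen I a • y ∈ grPiece F (n + 1) := by
  obtain ⟨m, rfl⟩ := hy
  have hm : a • (m : M) ∈ F.N (n + 1) :=
    F.smul_le n (Submodule.smul_mem_smul ha m.2)
  refine ⟨⟨a • (m : M), hm⟩, ?_⟩
  simp only [compMap, LinearMap.coe_mk, AddHom.coe_mk]
  rw [← _root_.map_smul]
  congr 1
  apply Subtype.ext
  change single A (n + 1) (a • (m : M)) = gen I a • single A n (m : M)
  rw [RA.smul_def, gen_val ha, monomial_smul_single, add_comm]

/-- the length of the graded pieces -/
theorem length_grPiece (F : I.Filtration M) (n : ℕ) :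
    Module.length A (M ⧸ F.N (n + 1)) =
      Module.length A (grPiece F n) + Module.length A (M ⧸ F.N n) := by
  let ψ : F.N n →ₗ[A] M ⧸ F.N (n + 1) := (F.N (n + 1)).mkQ ∘ₗ (F.N n).subtype
  have hker : LinearMap.ker ψ = LinearMap.ker (compMap F n) := by
    ext m
    rw [LinearMap.mem_ker, LinearMap.mem_ker, compMap_eq_zero_iff]
    simp [ψ]
  have e1 : Module.length A (grPiece F n) = Module.length A (LinearMap.range ψ) := by
    have e := (LinearMap.quotKerEquivRange (compMap F n)).symm.trans
      ((Submodule.quotEquivOfEq _ _ hker.symm).trans (LinearMap.quotKerEquivRange ψ))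
    exact e.length_eq
  let g : (M ⧸ F.N (n + 1)) →ₗ[A] M ⧸ F.N n :=
    Submodule.mapQ (F.N (n + 1)) (F.N n) LinearMap.id (by
      intro x hx; exact F.mono n hx)
  have hg : Function.Surjective g := by
    intro y
    obtain ⟨m, rfl⟩ := Submodule.mkQ_surjective _ y
    exact ⟨(F.N (n + 1)).mkQ m, rfl⟩
  have hex : Function.Exact (LinearMap.range ψ).subtype g := by
    intro y
    obtain ⟨m, rfl⟩ := Submodule.mkQ_surjective _ y
    constructor
    · intro h
      have hm : m ∈ F.N n := by
        have : (F.N n).mkQ m = 0 := h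
        rwa [Submodule.mkQ_apply, Submodule.Quotient.mk_eq_zero] at this
      exact ⟨⟨_, ⟨⟨m, hm⟩, rfl⟩⟩, rfl⟩
    · rintro ⟨⟨_, ⟨m', rfl⟩⟩, hm'⟩
      have h1 : (F.N (n + 1)).mkQ (m' : M) = (F.N (n + 1)).mkQ m := hm'
      change (F.N n).mkQ m = 0
      rw [Submodule.mkQ_apply, Submodule.Quotient.mk_eq_zero]
      have h2 : (m' : M) - m ∈ F.N (n + 1) := by
        rw [← Submodule.Quotient.mk_eq_zero, Submodule.Quotient.mk_sub, sub_eq_zero]
        exact h1
      have h3 := F.mono n h2
      have := Submodule.sub_mem _ m'.2 h3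
      simpa using this
  rw [Module.length_eq_add_of_exact (LinearMap.range ψ).subtype g
    (Submodule.subtype_injective _) hg hex, e1]

/-- **Existence of the Hilbert–Samuel polynomial** of a finitely generated module over a
Noetherian ring with respect to an ideal `I` with all `M/IⁿM` of finite length. -/
theorem exists_samuel_poly [IsNoetherianRing A] [Module.Finite A M] (I : Ideal A)
    (hfl : ∀ n, Module.length A (M ⧸ (I ^ n • ⊤ : Submodule A M)) ≠ ⊤) :
    ∃ (P : ℚ[X]) (n₀ : ℕ), ∀ n, n₀ ≤ n →
      ((Module.length A (M ⧸ (I ^ n • ⊤ : Submodule A M))).toNat : ℚ) = P.eval (n : ℚ) := by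
  classical
  set F := I.stableFiltration (⊤ : Submodule A M) with hF
  have hFN : ∀ n, F.N n = I ^ n • ⊤ := fun n => rfl
  have hFG : F.submodule.FG :=
    (Ideal.Filtration.submodule_fg_iff_stable F (fun i => IsNoetherian.noetherian _)).mpr
      (I.stableFiltration_stable ⊤)
  haveI : Module.Finite (RA I) (submod F) := Module.Finite.iff_fg.mpr (submod_fg F hFG)
  obtain ⟨s, hs⟩ := (IsNoetherian.noetherian I : I.FG)
  have hsI : ∀ a ∈ s, a ∈ I := fun a ha => hs ▸ Ideal.subset_span ha
  have hfin : ∀ n, Module.length A (grPiece F n) ≠ ⊤ := by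
    intro n
    have h1 := length_grPiece F n
    have h2 := hfl (n + 1)
    rw [← hFN, h1] at h2
    exact fun h => h2 (by rw [h, top_add])
  obtain ⟨Q, n₀, hQ⟩ := hilbert_serre (A := A) (B := RA I) (s.image (gen I)) (N := Gr F) ⊥
    (by
      intro b hb y
      rw [Ideal.mem_bot.mp hb, zero_smul])
    (fun b => ⟨b, adjoin_gen_eq_top hs b, by simp⟩)
    (grPiece F) (isGrading_grPiece F)
    (by
      intro b hb n y hy
      obtain ⟨a, ha, rfl⟩ := Finset.mem_image.mp hb
      exact gen_smul_mem F (hsI a ha) n y hy)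
    hfin
  have hdiff : ∀ n, n₀ ≤ n →
      ((Module.length A (M ⧸ (I ^ (n + 1) • ⊤ : Submodule A M))).toNat : ℚ) -
        ((Module.length A (M ⧸ (I ^ n • ⊤ : Submodule A M))).toNat : ℚ) = Q.eval (n : ℚ) := by
    intro n hn
    have h1 := length_grPiece F n
    rw [hFN, hFN] at h1
    obtain ⟨x1, hx1⟩ := ENat.ne_top_iff_exists.mp (hfl (n + 1))
    obtain ⟨x2, hx2⟩ := ENat.ne_top_iff_exists.mp (hfl n)
    obtain ⟨x3, hx3⟩ := ENat.ne_top_iff_exists.mp (hfin n)
    have h3 := hQ n hn
    rw [← hx1, ← hx2, ← hx3] at h1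
    rw [← hx3] at h3
    rw [← hx1, ← hx2]
    simp only [ENat.toNat_natCast] at h3 ⊢
    have h1' : x1 = x3 + x2 := by exact_mod_cast h1
    rw [← h3, h1']
    push_cast
    ring
  obtain ⟨P, hP⟩ := exists_poly_of_diff
    (fun n => ((Module.length A (M ⧸ (I ^ n • ⊤ : Submodule A M))).toNat : ℚ)) Q n₀ hdiff
  exact ⟨P, n₀, hP⟩

end Groth.Agent.H17.HS
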