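import Groth.Agent.H17.HS.Samuel

set_option autoImplicit false

namespace Groth.Agent.H17.HS

open Polynomial

universe u

variable {A : Type u} [CommRing A] [IsNoetherianRing A] [Finite (MaximalSpectrum A)]

theorem natDegree_comp_X_add_one (P : ℚ[X]) : (P.comp (X + 1)).natDegree = P.natDegree := by
  have := natDegree_comp_X_add_C P 1
  simpa using this

/-- `d(M) ≤ dim M` -/
theorem natDegree_le_of_supportDim_le : ∀ (d : ℕ) (M : Type u) [AddCommGroup M] [Module A M]
    [Module.Finite A M] (P : ℚ[X]), IsSamuelPoly A M P →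
    Module.supportDim A M ≤ (d : WithBot ℕ∞) → P.natDegree ≤ d := by
  intro d
  induction d with
  | zero =>
    intro M _ _ _ P hP hd
    have hfl : IsFiniteLength A M :=
      (isFiniteLength_iff_supportDim_le_zero M).mpr (by simpa using hd)
    obtain ⟨n₀, hn₀⟩ := hP
    have := natDegree_le_of_eventually_le P (C ((Module.length A M).toNat : ℚ))
      ⟨n₀, fun n hn => by rw [← hn₀ n hn]; exact Nat.cast_nonneg _⟩
      ⟨n₀, fun n hn => by
        rw [← hn₀ n hn, eval_C]
        exact_mod_cast samuel_le_length hfl n⟩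
    simpa using this
  | succ d ih =>
    intro M _ _ _ P hP hd
    obtain ⟨x, hxj, hx⟩ := exists_mem_jacobson_notMem_minimalPrimes (Module.annihilator A M)
    have hd' := supportDim_quotient_le M hx hd
    obtain ⟨P', hP'⟩ := exists_isSamuelPoly (A := A) (M ⧸ (Ideal.span {x} • ⊤ : Submodule A M))
    have ih' := ih _ P' hP' hd'
    obtain ⟨n₀, hn₀⟩ := hP
    obtain ⟨n₁, hn₁⟩ := hP'
    have h1 := natDegree_le_of_eventually_le (diff P) (P'.comp (X + 1))
      ⟨n₀, fun n hn => by
        rw [eval_diff]
        have e1 := hn₀ n hn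
        have e2 := hn₀ (n + 1) (by omega)
        push_cast at e2
        rw [← e1, ← e2, sub_nonneg]
        exact_mod_cast samuel_mono (A := A) (M := M) n⟩
      ⟨max n₀ n₁, fun n hn => by
        rw [eval_diff, eval_comp, eval_add, eval_X, eval_one]
        have e1 := hn₀ n (le_trans (le_max_left _ _) hn)
        have e2 := hn₀ (n + 1) (le_trans (le_trans (le_max_left _ _) hn) (Nat.le_succ n))
        have e3 := hn₁ (n + 1) (le_trans (le_trans (le_max_right _ _) hn) (Nat.le_succ n))
        push_cast at e2 e3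
        rw [← e1, ← e2, ← e3, sub_le_iff_le_add']
        exact_mod_cast samuel_succ_le (A := A) (M := M) hxj n⟩
    rw [natDegree_comp_X_add_one] at h1
    have h2 := natDegree_le_natDegree_diff_add_one P
    omega

/-- `dim M ≤ d(M)` -/
theorem le_natDegree_of_chain : ∀ (e : ℕ) (M : Type u) [AddCommGroup M] [Module A M]
    [Module.Finite A M] (P : ℚ[X]), IsSamuelPoly A M P →
    ∀ p : LTSeries (PrimeSpectrum A), p.length = e → p.head ∈ Module.support A M →
    e ≤ P.natDegree := by
  intro e
  induction e with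
  | zero => intros; exact Nat.zero_le _
  | succ e ih =>
    intro M _ _ _ P hP p hlen hhead
    rw [Module.support_eq_zeroLocus] at hhead
    have hann : Module.annihilator A M ≤ p.head.asIdeal := hhead
    obtain ⟨q, hq, hqp⟩ := Ideal.exists_minimalPrimes_le hann
    have hqass : q ∈ associatedPrimes A M :=
      Module.associatedPrimes.minimalPrimes_annihilator_subset_associatedPrimes A M hq
    obtain ⟨hqprime, f, hf⟩ := (isAssociatedPrime_iff_exists_injective_linearMap q M).mp hqass
    have hlen0 : p.length ≠ 0 := by omega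
    have hlt : p.head < p 1 := by
      apply p.strictMono
      rw [Fin.lt_def]
      simp [Nat.one_mod_eq_one.mpr (by omega : p.length + 1 ≠ 1)]
    have hlt' : p.head.asIdeal < (p 1).asIdeal := hlt
    obtain ⟨x, hx1, hxq⟩ := SetLike.exists_of_lt (lt_of_le_of_lt hqp hlt')
    -- the domain `D = A ⧸ q`
    obtain ⟨PD, hPD⟩ := exists_isSamuelPoly (A := A) (A ⧸ q)
    have hdeg1 : PD.natDegree ≤ P.natDegree := by
      obtain ⟨k₁, hk₁⟩ := samuel_sub_le f hf
      obtain ⟨n₀, hn₀⟩ := hP
      obtain ⟨n₁, hn₁⟩ := hPD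
      have := natDegree_le_of_eventually_le PD (P.comp (X + C (k₁ : ℚ)))
        ⟨n₁, fun n hn => by rw [← hn₁ n hn]; exact Nat.cast_nonneg _⟩
        ⟨max n₀ n₁, fun n hn => by
          rw [eval_comp, eval_add, eval_X, eval_C]
          have e1 := hn₁ n (le_trans (le_max_right _ _) hn)
          have e2 := hn₀ (n + k₁) (le_trans (le_trans (le_max_left _ _) hn) (Nat.le_add_right _ _))
          push_cast at e2
          rw [← e1, ← e2]
          have := hk₁ (n + k₁) (Nat.le_add_left _ _)
          rw [Nat.add_sub_cancel] at this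
          exact_mod_cast this⟩
      rwa [natDegree_comp_X_add_C] at this
    have hxreg : ∀ d : A ⧸ q, x • d = 0 → d = 0 := by
      intro d hd
      obtain ⟨a, rfl⟩ := Ideal.Quotient.mk_surjective d
      rw [Algebra.smul_def, Ideal.Quotient.algebraMap_eq, ← map_mul,
        Ideal.Quotient.eq_zero_iff_mem] at hd
      rw [Ideal.Quotient.eq_zero_iff_mem]
      exact (hqprime.mem_or_mem hd).resolve_left hxq
    -- the quotient `D' = D / x D`
    have hsupp : p 1 ∈ Module.support A ((A ⧸ q) ⧸ (Ideal.span {x} • ⊤ : Submodule A (A ⧸ q))) := by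
      rw [Module.support_quotient, Module.support_eq_zeroLocus, Ideal.annihilator_quotient]
      refine ⟨?_, ?_⟩
      · exact (lt_of_le_of_lt hqp hlt').le
      · change (Ideal.span {x} : Set A) ⊆ (p 1).asIdeal
        intro y hy
        obtain ⟨c, rfl⟩ := Ideal.mem_span_singleton'.mp hy
        exact Ideal.mul_mem_left _ _ hx1
    haveI : Nontrivial ((A ⧸ q) ⧸ (Ideal.span {x} • ⊤ : Submodule A (A ⧸ q))) :=
      Module.nonempty_support_iff.mp ⟨_, hsupp⟩
    obtain ⟨PD', hPD'⟩ := exists_isSamuelPoly (A := A)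
      ((A ⧸ q) ⧸ (Ideal.span {x} • ⊤ : Submodule A (A ⧸ q)))
    have ih' := ih _ PD' hPD' (p.tail hlen0) (by rw [RelSeries.tail_length]; omega)
      (by rw [RelSeries.head_tail]; exact hsupp)
    have hdeg2 : PD'.natDegree + 1 ≤ PD.natDegree := by
      obtain ⟨k₂, hk₂⟩ := samuel_quot_regular_le (A := A) (M := A ⧸ q) hxreg
      obtain ⟨n₁, hn₁⟩ := hPD
      obtain ⟨n₂, hn₂⟩ := hPD'
      have key : ∀ n, max (max n₁ n₂) 1 ≤ n →
          1 ≤ (PD'.comp (X + C (k₂ : ℚ))).eval (n : ℚ) ∧
          (PD'.comp (X + C (k₂ : ℚ))).eval (n : ℚ) ≤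
            (PD.comp (X + C (k₂ : ℚ)) - PD).eval (n : ℚ) := by
        intro n hn
        have hn1 : n₁ ≤ n := le_trans (le_trans (le_max_left _ _) (le_max_left _ _)) hn
        have hn2 : n₂ ≤ n := le_trans (le_trans (le_max_right _ _) (le_max_left _ _)) hn
        have hn3 : 1 ≤ n := le_trans (le_max_right _ _) hn
        rw [eval_sub, eval_comp, eval_comp, eval_add, eval_X, eval_C]
        have e1 := hn₁ n hn1
        have e2 := hn₁ (n + k₂) (le_trans hn1 (Nat.le_add_right _ _))
        have e3 := hn₂ (n + k₂) (le_trans hn2 (Nat.le_add_right _ _))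
        push_cast at e2 e3
        rw [← e1, ← e2, ← e3]
        have h1 := hk₂ (n + k₂) (Nat.le_add_left _ _)
        rw [Nat.add_sub_cancel] at h1
        have h2 := samuel_pos (A := A)
          (M := (A ⧸ q) ⧸ (Ideal.span {x} • ⊤ : Submodule A (A ⧸ q)))
          (n := n + k₂) (by omega)
        constructor
        · exact_mod_cast h2
        · rw [le_sub_iff_add_le]
          exact_mod_cast h1
      by_cases h0 : PD.natDegree = 0
      · exfalso
        have hz := shift_sub_eq_zero PD (k₂ : ℚ) h0
        have := key _ le_rfl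
        rw [hz, eval_zero] at this
        linarith [this.1, this.2]
      · have h3 := natDegree_le_of_eventually_le (PD'.comp (X + C (k₂ : ℚ)))
          (PD.comp (X + C (k₂ : ℚ)) - PD)
          ⟨_, fun n hn => le_trans zero_le_one (key n hn).1⟩
          ⟨_, fun n hn => (key n hn).2⟩
        rw [natDegree_comp_X_add_C] at h3
        have h4 := natDegree_shift_sub_lt PD (k₂ : ℚ) (Nat.pos_of_ne_zero h0)
        omega
    omega

end Groth.Agent.H17.HS
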