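import Groth.Agent.H17.HS.SerreK
import Groth.Agent.H17.HS.Binomial
import Mathlib

/-!
# Graded pieces of a finite graded module over a Noetherian graded ring

`S = ⊕ 𝒜 n` a graded `A`-algebra with `A → 𝒜 0` surjective, `M = ⊕ ℳ n` a graded `S`-module.
* `proj_smul_same`: the degree-`n` component of `s • y`, `y ∈ ℳ n`, is `s₀ • y`;
* `isNoetherian_gradedPiece`: if `M` is a Noetherian `S`-module, each `ℳ n` is a Noetherian
  `A`-module;
* `mem_adjoin_of_irrelevant_eq_span`: if `S₊` is generated by `T ⊆ 𝒜 1` then `S = A[T]`.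
-/

set_option autoImplicit false

namespace Groth.Agent.H17.HS

open DirectSum

section

variable {A S : Type*} [CommRing A] [CommRing S] [Algebra A S] (𝒜 : ℕ → Submodule A S)
  [GradedAlgebra 𝒜] {M : Type*} [AddCommGroup M] [Module A M] [Module S M] [IsScalarTower A S M]
  (ℳ : ℕ → Submodule A M) [DirectSum.Decomposition ℳ] [SetLike.GradedSMul 𝒜 ℳ]

omit [GradedAlgebra 𝒜] [IsScalarTower A S M] [Decomposition ℳ] in
theorem smul_mem_graded {k n : ℕ} {s : S} {y : M} (hs : s ∈ 𝒜 k) (hy : y ∈ ℳ n) :
    s • y ∈ ℳ (k + n) := by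
  have := SetLike.GradedSMul.smul_mem hs hy
  rwa [vadd_eq_add] at this

omit [IsScalarTower A S M] in
theorem proj_smul_same (s : S) {n : ℕ} {y : M} (hy : y ∈ ℳ n) :
    ((decompose ℳ (s • y)) n : M) = ((decompose 𝒜 s) 0 : S) • y := by
  classical
  conv_lhs => rw [← DirectSum.sum_support_decompose 𝒜 s, Finset.sum_smul, decompose_sum]
  rw [DFinsupp.finsetSum_apply, AddSubmonoidClass.coe_finsetSum]
  have hterm : ∀ k : ℕ, ((decompose ℳ (((decompose 𝒜 s) k : S) • y)) n : M) =
      if k = 0 then ((decompose 𝒜 s) 0 : S) • y else 0 := by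
    intro k
    have hmem : ((decompose 𝒜 s) k : S) • y ∈ ℳ (k + n) :=
      smul_mem_graded 𝒜 ℳ (SetLike.coe_mem _) hy
    split_ifs with hk
    · subst hk
      rw [zero_add] at hmem
      rw [DirectSum.decompose_of_mem_same ℳ hmem]
    · rw [DirectSum.decompose_of_mem_ne ℳ hmem (by omega)]
  rw [Finset.sum_congr rfl (fun k _ => hterm k), Finset.sum_ite_eq']
  split_ifs with h0
  · rfl
  · rw [DFinsupp.mem_support_toFun, not_not] at h0
    rw [h0]
    simp

variable (h0 : ∀ s ∈ 𝒜 0, s ∈ Set.range (algebraMap A S))

include h0 in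
theorem isNoetherian_gradedPiece [IsNoetherian S M] (n : ℕ) : IsNoetherian A (ℳ n) := by
  classical
  rw [isNoetherian_iff']
  let φ : Submodule A (ℳ n) → Submodule S M :=
    fun N' => Submodule.span S ((ℳ n).subtype '' (N' : Set (ℳ n)))
  have key : ∀ (N' : Submodule A (ℳ n)) (x : M), x ∈ φ N' →
      ((decompose ℳ x) n : M) ∈ N'.map (ℳ n).subtype := by
    intro N' x hx
    have hq : ∀ s : S, ((decompose ℳ (s • x)) n : M) ∈ N'.map (ℳ n).subtype := by
      induction hx using Submodule.span_induction with
      | mem x hx =>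
        intro s
        obtain ⟨z, hz, rfl⟩ := hx
        rw [Submodule.subtype_apply, proj_smul_same 𝒜 ℳ s z.2]
        obtain ⟨c, hc⟩ := h0 _ (SetLike.coe_mem ((decompose 𝒜 s) 0))
        rw [← hc, algebraMap_smul]
        exact Submodule.smul_mem _ _ (Submodule.mem_map_of_mem hz)
      | zero =>
        intro s
        rw [smul_zero, decompose_zero]
        exact Submodule.zero_mem _
      | add x y _ _ hx hy =>
        intro s
        rw [smul_add, decompose_add]
        exact Submodule.add_mem _ (hx s) (hy s)
      | smul t x _ hx =>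
        intro s
        rw [← mul_smul]
        exact hx (s * t)
    have := hq 1
    rwa [one_smul] at this
  have hmono : StrictMono φ := by
    intro N₁ N₂ h12
    rw [lt_iff_le_not_ge] at h12 ⊢
    refine ⟨Submodule.span_mono (Set.image_mono h12.1), fun hle => h12.2 ?_⟩
    intro y hy
    have h1 : (y : M) ∈ φ N₂ := Submodule.subset_span ⟨y, hy, rfl⟩
    have h2 := key N₁ _ (hle h1)
    rw [DirectSum.decompose_of_mem_same ℳ y.2] at h2
    obtain ⟨z, hz, hzy⟩ := h2
    have : z = y := Subtype.ext hzy
    rwa [← this]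
  exact hmono.wellFoundedGT

include h0 in
/-- if the irrelevant ideal is generated by a set `T` of elements of degree one, then `S = A[T]` -/
theorem mem_adjoin_of_irrelevant_eq_span (T : Set S) (hT : T ⊆ 𝒜 1)
    (hspan : (HomogeneousIdeal.irrelevant 𝒜).toIdeal = Ideal.span T) (b : S) :
    b ∈ Algebra.adjoin A T := by
  classical
  have hhom : ∀ n : ℕ, ∀ b ∈ 𝒜 n, b ∈ Algebra.adjoin A T := by
    intro n
    induction n with
    | zero =>
      intro b hb
      obtain ⟨c, rfl⟩ := h0 b hb
      exact Subalgebra.algebraMap_mem _ c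
    | succ n ih =>
      intro b hb
      have hb' : b ∈ Ideal.span T := by
        rw [← hspan]
        exact HomogeneousIdeal.mem_irrelevant_of_mem 𝒜 (Nat.succ_pos n) hb
      -- the degree `n+1` part of any multiple of an element of the span lies in the adjoin
      have hq2 : ∀ x ∈ Ideal.span T, ∀ c : S,
          ((decompose 𝒜 (c * x)) (n + 1) : S) ∈ Algebra.adjoin A T := by
        intro x hx
        induction hx using Submodule.span_induction with
        | mem x hx =>
          intro c
          rw [DirectSum.coe_decompose_mul_add_of_right_mem 𝒜 (hT hx)]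
          exact Subalgebra.mul_mem _ (ih _ (SetLike.coe_mem _)) (Algebra.subset_adjoin hx)
        | zero =>
          intro c
          rw [mul_zero, decompose_zero]
          exact Subalgebra.zero_mem _
        | add x y _ _ hx hy =>
          intro c
          rw [mul_add, decompose_add]
          exact Subalgebra.add_mem _ (hx c) (hy c)
        | smul d x _ hx =>
          intro c
          rw [smul_eq_mul, ← mul_assoc]
          exact hx (c * d)
      have hq : ∀ x ∈ Ideal.span T, ((decompose 𝒜 x) (n + 1) : S) ∈ Algebra.adjoin A T := by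
        intro x hx
        have := hq2 x hx 1
        rwa [one_mul] at this
      have := hq b hb'
      rwa [DirectSum.decompose_of_mem_same 𝒜 hb] at this
  rw [← DirectSum.sum_support_decompose 𝒜 b]
  exact Subalgebra.sum_mem _ fun n _ => hhom n _ (SetLike.coe_mem _)

end

end Groth.Agent.H17.HS
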