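import Groth.Agent.H17.HS.Samuel
import Mathlib.Analysis.SpecificLimits.Basic

set_option autoImplicit false

namespace Groth.Agent.H17.HS

universe u

variable {A : Type u} [CommRing A] [IsNoetherianRing A]

/-- the length function `t ↦ ℓ(M / Iᵗ M)` -/
noncomputable def chi (I : Ideal A) (M : Type u) [AddCommGroup M] [Module A M] (t : ℕ) : ℕ∞ :=
  Module.length A (M ⧸ (I ^ t • ⊤ : Submodule A M))

section exact

variable {M' M M'' : Type u} [AddCommGroup M'] [Module A M'] [AddCommGroup M] [Module A M]
  [AddCommGroup M''] [Module A M''] [Module.Finite A M]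
  (f : M' →ₗ[A] M) (g : M →ₗ[A] M'') (hf : Function.Injective f) (hg : Function.Surjective g)
  (hfg : LinearMap.range f = LinearMap.ker g) (I : Ideal A)

include hf hg hfg in
/-- the basic sandwich for Samuel functions in a short exact sequence -/
theorem chi_exact : ∃ k, ∀ t, k ≤ t → ∃ c : ℕ∞,
    chi I M t = chi I M'' t + c ∧ chi I M' (t - k) ≤ c ∧ c ≤ chi I M' t := by
  obtain ⟨k, hk⟩ := exists_comap_pow_le I f hf
  refine ⟨k, fun t ht => ?_⟩
  set S := (I ^ t • ⊤ : Submodule A M).comap f with hS
  refine ⟨Module.length A (M' ⧸ S), ?_, ?_, ?_⟩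
  · -- exact sequence
    let f' : (M' ⧸ S) →ₗ[A] M ⧸ (I ^ t • ⊤ : Submodule A M) := Submodule.mapQ S _ f le_rfl
    have hgle : (I ^ t • ⊤ : Submodule A M) ≤ (I ^ t • ⊤ : Submodule A M'').comap g := by
      rw [← Submodule.map_le_iff_le_comap, Submodule.map_smul'']
      exact Submodule.smul_mono le_rfl le_top
    let g' : (M ⧸ (I ^ t • ⊤ : Submodule A M)) →ₗ[A] M'' ⧸ (I ^ t • ⊤ : Submodule A M'') :=
      Submodule.mapQ _ _ g hgle
    have hf' : Function.Injective f' := by
      rw [← LinearMap.ker_eq_bot, eq_bot_iff]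
      intro y hy
      obtain ⟨m', rfl⟩ := Submodule.mkQ_surjective _ y
      rw [LinearMap.mem_ker] at hy
      have : (Submodule.mkQ _) (f m') = (0 : M ⧸ (I ^ t • ⊤ : Submodule A M)) := hy
      rw [Submodule.mkQ_apply, Submodule.Quotient.mk_eq_zero] at this
      rw [Submodule.mem_bot, Submodule.mkQ_apply, Submodule.Quotient.mk_eq_zero]
      exact this
    have hg' : Function.Surjective g' := by
      intro y
      obtain ⟨m'', rfl⟩ := Submodule.mkQ_surjective _ y
      obtain ⟨m, rfl⟩ := hg m''
      exact ⟨Submodule.mkQ _ m, rfl⟩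
    have hex : Function.Exact f' g' := by
      intro y
      obtain ⟨m, rfl⟩ := Submodule.mkQ_surjective _ y
      constructor
      · intro h
        have h1 : (Submodule.mkQ (I ^ t • ⊤ : Submodule A M'')) (g m) = 0 := h
        rw [Submodule.mkQ_apply, Submodule.Quotient.mk_eq_zero] at h1
        have h2 : g m ∈ (I ^ t • ⊤ : Submodule A M).map g := by
          rw [Submodule.map_smul'', Submodule.map_top, LinearMap.range_eq_top.mpr hg]
          exact h1
        obtain ⟨m₁, hm₁, hgm⟩ := h2
        have h3 : m - m₁ ∈ LinearMap.ker g := by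
          rw [LinearMap.mem_ker, map_sub, hgm, sub_self]
        rw [← hfg] at h3
        obtain ⟨m', hm'⟩ := h3
        refine ⟨Submodule.mkQ _ m', ?_⟩
        change Submodule.mkQ _ (f m') = Submodule.mkQ _ m
        rw [hm', map_sub, sub_eq_self, Submodule.mkQ_apply, Submodule.Quotient.mk_eq_zero]
        exact hm₁
      · rintro ⟨y', hy'⟩
        obtain ⟨m', rfl⟩ := Submodule.mkQ_surjective _ y'
        rw [← hy']
        change Submodule.mkQ _ (g (f m')) = 0
        have : g (f m') = 0 := by
          have : f m' ∈ LinearMap.ker g := hfg ▸ ⟨m', rfl⟩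
          exact this
        rw [this, map_zero]
    have := Module.length_eq_add_of_exact f' g' hf' hg' hex
    rw [add_comm] at this
    exact this
  · have hSle : S ≤ I ^ (t - k) • ⊤ := hk t ht
    exact Module.length_le_of_surjective (Submodule.factor hSle) (Submodule.factor_surjective hSle)
  · have hle : (I ^ t • ⊤ : Submodule A M') ≤ S := by
      rw [hS, ← Submodule.map_le_iff_le_comap, Submodule.map_smul'']
      exact Submodule.smul_mono le_rfl le_top
    exact Module.length_le_of_surjective (Submodule.factor hle) (Submodule.factor_surjective hle)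

end exact

theorem finite_maximalSpectrum_of_isLocalRing (A : Type u) [CommRing A] [IsLocalRing A] :
    Finite (MaximalSpectrum A) := by
  haveI : Subsingleton (MaximalSpectrum A) := by
    constructor
    intro a b
    apply MaximalSpectrum.ext
    rw [IsLocalRing.eq_maximalIdeal a.isMaximal, IsLocalRing.eq_maximalIdeal b.isMaximal]
  exact Finite.of_subsingleton

theorem jacobson_eq_maximalIdeal_of_isLocalRing (A : Type u) [CommRing A] [IsLocalRing A] :
    Ring.jacobson A = IsLocalRing.maximalIdeal A := by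
  rw [← Ideal.jacobson_bot]
  exact IsLocalRing.jacobson_eq_maximalIdeal _ bot_ne_top

theorem chi_ne_top [IsLocalRing A] (I : Ideal A) (hI : ∃ n : ℕ, IsLocalRing.maximalIdeal A ^ n ≤ I)
    (M : Type u) [AddCommGroup M] [Module A M] [Module.Finite A M] (t : ℕ) : chi I M t ≠ ⊤ := by
  haveI := finite_maximalSpectrum_of_isLocalRing A
  obtain ⟨n, hn⟩ := hI
  have hle : (Ring.jacobson A ^ (n * t) • ⊤ : Submodule A M) ≤ I ^ t • ⊤ := by
    apply Submodule.smul_mono_left
    rw [jacobson_eq_maximalIdeal_of_isLocalRing, pow_mul]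
    exact Ideal.pow_right_mono hn t
  have h1 := Module.length_le_of_surjective (Submodule.factor hle) (Submodule.factor_surjective hle)
  have h2 := Module.length_ne_top_iff.mpr (isFiniteLength_quotient_jacobson_pow (A := A) M (n * t))
  exact ne_top_of_le_ne_top h2 h1

open Filter Topology in
/-- squeeze lemma with a shift, for normalised Samuel functions -/
theorem tendsto_of_shift_sandwich (u w : ℕ → ℝ) (k d : ℕ) (C e : ℝ) (hC : 0 ≤ C)
    (hu : Tendsto (fun t : ℕ => C * u t / (t : ℝ) ^ d) atTop (𝓝 e))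
    (hb : ∀ t, k ≤ t → u (t - k) ≤ w t ∧ w t ≤ u t) :
    Tendsto (fun t : ℕ => C * w t / (t : ℝ) ^ d) atTop (𝓝 e) := by
  have h1 : Tendsto (fun t : ℕ => C * u (t - k) / (((t - k : ℕ) : ℝ)) ^ d) atTop (𝓝 e) :=
    hu.comp (tendsto_sub_atTop_nat k)
  have h2 : Tendsto (fun t : ℕ => (((t - k : ℕ) : ℝ) / (t : ℝ))) atTop (𝓝 1) := by
    have h3 : Tendsto (fun t : ℕ => (1 : ℝ) - (k : ℝ) / (t : ℝ)) atTop (𝓝 (1 - 0)) :=
      tendsto_const_nhds.sub (tendsto_const_div_atTop_nhds_zero_nat (k : ℝ))
    rw [sub_zero] at h3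
    refine h3.congr' ?_
    filter_upwards [eventually_ge_atTop (k + 1)] with t ht
    have ht0 : (t : ℝ) ≠ 0 := by
      have : 0 < t := by omega
      exact_mod_cast this.ne'
    rw [Nat.cast_sub (by omega : k ≤ t)]
    field_simp
  have h4 : Tendsto (fun t : ℕ => (((t - k : ℕ) : ℝ) / (t : ℝ)) ^ d) atTop (𝓝 1) := by
    have := h2.pow d
    rwa [one_pow] at this
  have h5 : Tendsto (fun t : ℕ => C * u (t - k) / (t : ℝ) ^ d) atTop (𝓝 e) := by
    have h6 := h1.mul h4
    rw [mul_one] at h6
    refine h6.congr' ?_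
    filter_upwards [eventually_ge_atTop (k + 1)] with t ht
    have ht0 : (t : ℝ) ≠ 0 := by
      have : 0 < t := by omega
      exact_mod_cast this.ne'
    have hs0 : (((t - k : ℕ) : ℝ)) ≠ 0 := by
      have : 0 < t - k := by omega
      exact_mod_cast this.ne'
    rw [div_pow]
    field_simp
  refine tendsto_of_tendsto_of_tendsto_of_le_of_le' h5 hu ?_ ?_
  · filter_upwards [eventually_ge_atTop k] with t ht
    have := (hb t ht).1
    gcongr
  · filter_upwards [eventually_ge_atTop k] with t ht
    have := (hb t ht).2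
    gcongr

end Groth.Agent.H17.HS
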