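import Groth.Agent.S12211
import Groth.Agent.H17.HS.Degree
import Mathlib.RingTheory.Localization.Module
import Mathlib.Algebra.Module.LocalizedModule.Exact
import Mathlib.RingTheory.KrullDimension.Module
import Mathlib.RingTheory.KrullDimension.NonZeroDivisors
import Mathlib.RingTheory.Ideal.AssociatedPrime.Finiteness
import Mathlib.Analysis.Polynomial.Basic

set_option autoImplicit false

namespace Groth.Agent.H17.HS

universe u

open Filter Topology Polynomial

section loc

variable {A : Type u} [CommRing A]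

/-- length of the localisation at a prime -/
noncomputable def locLen (p : PrimeSpectrum A) (N : Type u) [AddCommGroup N] [Module A N] : ℕ∞ :=
  Module.length (Localization.AtPrime p.asIdeal) (LocalizedModule p.asIdeal.primeCompl N)

theorem locLen_exact (p : PrimeSpectrum A) {N₁ N₂ N₃ : Type u} [AddCommGroup N₁] [Module A N₁]
    [AddCommGroup N₂] [Module A N₂] [AddCommGroup N₃] [Module A N₃]
    (f : N₁ →ₗ[A] N₂) (g : N₂ →ₗ[A] N₃) (hf : Function.Injective f) (hg : Function.Surjective g)
    (hfg : Function.Exact f g) : locLen p N₂ = locLen p N₁ + locLen p N₃ := by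
  unfold locLen
  refine Module.length_eq_add_of_exact (LocalizedModule.map p.asIdeal.primeCompl f)
    (LocalizedModule.map p.asIdeal.primeCompl g)
    (LocalizedModule.map_injective _ f hf) (LocalizedModule.map_surjective _ g hg) ?_
  exact LocalizedModule.map_exact p.asIdeal.primeCompl f g hfg

theorem locLen_congr (p : PrimeSpectrum A) {N N' : Type u} [AddCommGroup N] [Module A N]
    [AddCommGroup N'] [Module A N'] (e : N ≃ₗ[A] N') : locLen p N = locLen p N' := by
  unfold locLen
  exact (IsLocalizedModule.mapEquiv p.asIdeal.primeCompl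
    (LocalizedModule.mkLinearMap p.asIdeal.primeCompl N)
    (LocalizedModule.mkLinearMap p.asIdeal.primeCompl N')
    (Localization.AtPrime p.asIdeal) e).length_eq

theorem locLen_of_subsingleton (p : PrimeSpectrum A) (N : Type u) [AddCommGroup N] [Module A N]
    [Subsingleton N] : locLen p N = 0 := by
  unfold locLen
  exact Module.length_eq_zero

theorem locLen_quotient_of_not_le (p q : PrimeSpectrum A) (h : ¬ q.asIdeal ≤ p.asIdeal) :
    locLen p (A ⧸ q.asIdeal) = 0 := by
  unfold locLen
  rw [Module.length_eq_zero_iff, LocalizedModule.subsingleton_iff]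
  obtain ⟨r, hrq, hrp⟩ := Set.not_subset.mp h
  intro m
  refine ⟨r, hrp, ?_⟩
  obtain ⟨a, rfl⟩ := Ideal.Quotient.mk_surjective m
  rw [← Ideal.Quotient.mk_eq_mk, ← Submodule.Quotient.mk_smul, Ideal.Quotient.mk_eq_mk,
    Ideal.Quotient.eq_zero_iff_mem, smul_eq_mul]
  exact q.asIdeal.mul_mem_right _ hrq

theorem locLen_quotient_self (p : PrimeSpectrum A) : locLen p (A ⧸ p.asIdeal) = 1 := by
  unfold locLen
  rw [Module.length_eq_one_iff, isSimpleModule_iff_toSpanSingleton_surjective]
  constructor
  · rw [← not_subsingleton_iff_nontrivial, LocalizedModule.subsingleton_iff]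
    intro h
    obtain ⟨r, hr, h0⟩ := h 1
    apply hr
    have : (Ideal.Quotient.mk p.asIdeal) r = 0 := by
      rw [← h0, Algebra.smul_def, mul_one]; rfl
    exact Ideal.Quotient.eq_zero_iff_mem.mp this
  · intro x hx y
    induction x with | _ a s
    induction y with | _ b s'
    obtain ⟨a, rfl⟩ := Ideal.Quotient.mk_surjective a
    obtain ⟨b, rfl⟩ := Ideal.Quotient.mk_surjective b
    have ha : a ∈ p.asIdeal.primeCompl := by
      intro hmem
      apply hx
      rw [Ideal.Quotient.eq_zero_iff_mem.mpr hmem, LocalizedModule.zero_mk]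
    refine ⟨Localization.mk (b * s) (⟨a, ha⟩ * s'), ?_⟩
    rw [LinearMap.toSpanSingleton_apply, LocalizedModule.mk_smul_mk, LocalizedModule.mk_eq]
    refine ⟨1, ?_⟩
    simp only [one_smul, Submonoid.smul_def, Submonoid.coe_mul, Algebra.smul_def,
      Ideal.Quotient.algebraMap_eq, ← map_mul]
    congr 1
    ring

end loc

section dim

variable {A : Type u} [CommRing A]

theorem ringKrullDim_quotient_succ_le_of_lt {p q : Ideal A} [p.IsPrime] [q.IsPrime] (h : q < p) :
    ringKrullDim (A ⧸ p) + 1 ≤ ringKrullDim (A ⧸ q) := by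
  obtain ⟨x, hxp, hxq⟩ := Set.exists_of_ssubset h
  set r : A ⧸ q := Ideal.Quotient.mk q x with hr
  have hr0 : r ≠ 0 := fun h0 => hxq (Ideal.Quotient.eq_zero_iff_mem.mp h0)
  have hrmem : r ∈ nonZeroDivisors (A ⧸ q) := mem_nonZeroDivisors_of_ne_zero hr0
  let φ : A ⧸ q →+* A ⧸ p := Ideal.Quotient.factor h.le
  have hφ : Function.Surjective φ := Ideal.Quotient.factor_surjective h.le
  let ψ : (A ⧸ q) ⧸ Ideal.span {r} →+* A ⧸ p := Ideal.Quotient.lift (Ideal.span {r}) φ (by
    intro a ha
    rw [Ideal.mem_span_singleton'] at ha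
    obtain ⟨c, rfl⟩ := ha
    rw [map_mul]
    have : φ r = 0 := by
      rw [hr, Ideal.Quotient.factor_mk, Ideal.Quotient.eq_zero_iff_mem]
      exact hxp
    rw [this, mul_zero])
  have hψ : Function.Surjective ψ := by
    intro y
    obtain ⟨z, rfl⟩ := hφ y
    exact ⟨Ideal.Quotient.mk _ z, by simp [ψ]⟩
  have h1 := ringKrullDim_le_of_surjective ψ hψ
  have h2 := ringKrullDim_quotient_succ_le_of_nonZeroDivisor hrmem
  exact le_trans (by gcongr) h2

theorem not_le_of_dim {p q : PrimeSpectrum A} (hne : p ≠ q) {d : ℕ}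
    (hp : ringKrullDim (A ⧸ p.asIdeal) = d) (hq : ringKrullDim (A ⧸ q.asIdeal) ≤ d) :
    ¬ q.asIdeal ≤ p.asIdeal := by
  intro hle
  have hlt : q.asIdeal < p.asIdeal := lt_of_le_of_ne hle (fun h => hne (PrimeSpectrum.ext h.symm))
  have h1 := ringKrullDim_quotient_succ_le_of_lt hlt
  rw [hp] at h1
  have h2 := h1.trans hq
  have h3 : ((d + 1 : ℕ) : WithBot ℕ∞) ≤ (d : ℕ) := by exact_mod_cast h2
  have h4 : d + 1 ≤ d := by exact_mod_cast h3
  omega

end dim

section chi

variable {A : Type u} [CommRing A] [IsNoetherianRing A]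

theorem chi_congr (I : Ideal A) {N N' : Type u} [AddCommGroup N] [Module A N]
    [AddCommGroup N'] [Module A N'] (e : N ≃ₗ[A] N') (t : ℕ) : chi I N t = chi I N' t := by
  unfold chi
  refine (Submodule.Quotient.equiv _ _ e ?_).length_eq
  rw [Submodule.map_smul'', Submodule.map_top, LinearEquiv.range]

theorem chi_of_subsingleton (I : Ideal A) (N : Type u) [AddCommGroup N] [Module A N]
    [Subsingleton N] (t : ℕ) : chi I N t = 0 := by
  unfold chi
  exact Module.length_eq_zero

variable [IsLocalRing A]

theorem tendsto_zero_of_supportDim_lt (I : Ideal A)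
    (hI : ∃ n : ℕ, IsLocalRing.maximalIdeal A ^ n ≤ I)
    (N : Type u) [AddCommGroup N] [Module A N] [Module.Finite A N] (d : ℕ)
    (hd : Module.supportDim A N < d) :
    Tendsto (fun t : ℕ => (d.factorial : ℝ) * ((chi I N t).toNat : ℝ) / (t : ℝ) ^ d) atTop
      (𝓝 0) := by
  haveI := finite_maximalSpectrum_of_isLocalRing A
  obtain ⟨n', hn'⟩ := hI
  -- replace n' by n = n' + 1 ≥ 1
  set n := n' + 1 with hn
  have hnI : IsLocalRing.maximalIdeal A ^ n ≤ I :=
    le_trans (Ideal.pow_le_pow_right (Nat.le_succ n')) hn'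
  rcases Nat.eq_zero_or_pos d with hd0 | hdpos
  · -- d = 0 : N is trivial
    subst hd0
    have : Module.supportDim A N = ⊥ := by
      rw [Nat.cast_zero] at hd
      exact (WithBot.lt_zero_iff_eq_bot _).mp hd
    haveI : Subsingleton N := (Module.supportDim_eq_bot_iff_subsingleton A N).mp this
    simp [chi_of_subsingleton]
  · obtain ⟨P, hP⟩ := exists_isSamuelPoly (A := A) (M := N)
    have hdeg : P.natDegree ≤ d - 1 := by
      apply natDegree_le_of_supportDim_le (d - 1) N P hP
      have hd1 : d = (d - 1) + 1 := by omega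
      rw [hd1, Nat.cast_add, Nat.cast_one] at hd
      exact ENat.WithBot.lt_add_one_iff.mp hd
    obtain ⟨n₀, hn₀⟩ := hP
    -- bound
    have hbound : ∀ t, n₀ ≤ t → ((chi I N t).toNat : ℝ) ≤ ((P.eval ((n * t : ℕ) : ℚ) : ℚ) : ℝ) := by
      intro t ht
      have hle : (Ring.jacobson A ^ (n * t) • ⊤ : Submodule A N) ≤ I ^ t • ⊤ := by
        apply Submodule.smul_mono_left
        rw [jacobson_eq_maximalIdeal_of_isLocalRing, pow_mul]
        exact Ideal.pow_right_mono hnI t
      have h1 : chi I N t ≤ (samuel A N (n * t) : ℕ∞) := by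
        rw [← length_eq_samuel]
        exact Module.length_le_of_surjective (Submodule.factor hle) (Submodule.factor_surjective hle)
      have h2 : (chi I N t).toNat ≤ samuel A N (n * t) := by
        have := ENat.toNat_le_toNat h1 (ENat.natCast_ne_top _)
        simpa using this
      have h3 : n₀ ≤ n * t := le_trans ht (Nat.le_mul_of_pos_left t (Nat.succ_pos n'))
      rw [← hn₀ (n * t) h3]
      exact_mod_cast h2
    -- the polynomial limit
    set R : ℝ[X] := (P.map (algebraMap ℚ ℝ)).comp (C (n : ℝ) * X) with hR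
    have hRdeg : R.degree < (X ^ d : ℝ[X]).degree := by
      rw [degree_X_pow]
      refine lt_of_le_of_lt degree_le_natDegree ?_
      have h1 : R.natDegree ≤ (P.map (algebraMap ℚ ℝ)).natDegree * (C (n : ℝ) * X).natDegree :=
        natDegree_comp_le
      have h2 : (C (n : ℝ) * X).natDegree ≤ 1 :=
        (natDegree_C_mul_le _ _).trans natDegree_X_le
      have h3 : (P.map (algebraMap ℚ ℝ)).natDegree ≤ P.natDegree := natDegree_map_le
      have h4 : R.natDegree ≤ d - 1 := by
        calc R.natDegree ≤ (P.map (algebraMap ℚ ℝ)).natDegree * (C (n : ℝ) * X).natDegree := h1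
          _ ≤ P.natDegree * 1 := Nat.mul_le_mul h3 h2
          _ ≤ d - 1 := by rw [mul_one]; exact hdeg
      have : R.natDegree < d := by omega
      exact_mod_cast this
    have hlim := (div_tendsto_atTop_zero_of_degree_lt R (X ^ d) hRdeg).comp
      tendsto_natCast_atTop_atTop
    have hlim2 : Tendsto (fun t : ℕ => (d.factorial : ℝ) * (R.eval (t : ℝ) / (t : ℝ) ^ d)) atTop
        (𝓝 0) := by
      have := hlim.const_mul (d.factorial : ℝ)
      simpa using this
    refine tendsto_of_tendsto_of_tendsto_of_le_of_le' tendsto_const_nhds hlim2 ?_ ?_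
    · exact Eventually.of_forall fun t => by positivity
    · filter_upwards [eventually_ge_atTop n₀] with t ht
      have hb := hbound t ht
      have hev : R.eval (t : ℝ) = ((P.eval ((n * t : ℕ) : ℚ) : ℚ) : ℝ) := by
        rw [hR, eval_comp, eval_mul, eval_C, eval_X]
        have : ((n : ℝ) * (t : ℝ)) = ((n * t : ℕ) : ℝ) := by push_cast; ring
        rw [this, eval_natCast_map]
        rfl
      rw [hev, mul_div_assoc]
      gcongr

end chi

section main

variable {A : Type u} [CommRing A] [IsNoetherianRing A] [IsLocalRing A]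

/-- the inductive statement -/
def Good (I : Ideal A) (d : ℕ) (e : PrimeSpectrum A → ℝ) (N : Type u) [AddCommGroup N]
    [Module A N] : Prop :=
  (∀ p : PrimeSpectrum A, ringKrullDim (A ⧸ p.asIdeal) = d → locLen p N ≠ ⊤) ∧
  {p : PrimeSpectrum A | ringKrullDim (A ⧸ p.asIdeal) = d ∧ locLen p N ≠ 0}.Finite ∧
  Tendsto (fun t : ℕ => (d.factorial : ℝ) * ((chi I N t).toNat : ℝ) / (t : ℝ) ^ d) atTop
    (𝓝 (∑ᶠ (p : PrimeSpectrum A) (_ : ringKrullDim (A ⧸ p.asIdeal) = d),
      ((locLen p N).toNat : ℝ) * e p))

theorem good_of_supportDim_le (I : Ideal A)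
    (hI : I ≤ IsLocalRing.maximalIdeal A ∧ ∃ n : ℕ, IsLocalRing.maximalIdeal A ^ n ≤ I)
    (d : ℕ) (e : PrimeSpectrum A → ℝ)
    (he : ∀ p : PrimeSpectrum A, ringKrullDim (A ⧸ p.asIdeal) = d →
      Tendsto (fun t : ℕ => (d.factorial : ℝ) *
        ((chi I (A ⧸ p.asIdeal) t).toNat : ℝ) / (t : ℝ) ^ d) atTop (𝓝 (e p)))
    (M : Type u) [AddCommGroup M] [Module A M] [hM : Module.Finite A M]
    (hd : Module.supportDim A M ≤ d) : Good I d e M := by
  classical
  revert hd
  refine IsNoetherianRing.induction_on_isQuotientEquivQuotientPrime A hM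
    (motive := fun N _ _ _ => Module.supportDim A N ≤ d → Good I d e N) ?_ ?_ ?_
  · -- subsingleton
    intro N _ _ _ _ _
    refine ⟨fun p _ => by rw [locLen_of_subsingleton]; simp, ?_, ?_⟩
    · convert Set.finite_empty
      ext p
      simp [locLen_of_subsingleton]
    · simp [locLen_of_subsingleton, chi_of_subsingleton]
  · -- N ≃ A/q
    intro N _ _ _ q f hd
    have hq : ringKrullDim (A ⧸ q.asIdeal) ≤ d := by
      rw [← Module.supportDim_quotient_eq_ringKrullDim, ← Module.supportDim_eq_of_equiv f]
      exact hd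
    have hloc : ∀ p : PrimeSpectrum A, ringKrullDim (A ⧸ p.asIdeal) = d →
        locLen p N = if p = q then 1 else 0 := by
      intro p hp
      rw [locLen_congr p f]
      split_ifs with hpq
      · rw [hpq]; exact locLen_quotient_self q
      · exact locLen_quotient_of_not_le p q (not_le_of_dim hpq hp hq)
    refine ⟨fun p hp => ?_, ?_, ?_⟩
    · rw [hloc p hp]; split_ifs <;> simp
    · refine (Set.finite_singleton q).subset ?_
      rintro p ⟨hp, hne⟩
      rw [hloc p hp] at hne
      by_contra hpq
      have hpq' : p ≠ q := fun h => hpq (by rw [h]; exact Set.mem_singleton q)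
      rw [if_neg hpq'] at hne
      exact hne rfl
    · have hchi : ∀ t, chi I N t = chi I (A ⧸ q.asIdeal) t := fun t => chi_congr I f t
      simp only [hchi]
      by_cases hqd : ringKrullDim (A ⧸ q.asIdeal) = d
      · have hsum : (∑ᶠ (p : PrimeSpectrum A) (_ : ringKrullDim (A ⧸ p.asIdeal) = d),
            ((locLen p N).toNat : ℝ) * e p) = e q := by
          rw [finsum_eq_single _ q]
          · rw [finsum_eq_if, if_pos hqd, hloc q hqd, if_pos rfl]
            simp
          · intro p hpq
            rw [finsum_eq_if]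
            split_ifs with hp
            · rw [hloc p hp, if_neg hpq]; simp
            · rfl
        rw [hsum]
        exact he q hqd
      · have hsum : (∑ᶠ (p : PrimeSpectrum A) (_ : ringKrullDim (A ⧸ p.asIdeal) = d),
            ((locLen p N).toNat : ℝ) * e p) = 0 := by
          apply finsum_eq_zero_of_forall_eq_zero
          intro p
          rw [finsum_eq_if]
          split_ifs with hp
          · have hpq : p ≠ q := fun h => hqd (h ▸ hp)
            rw [hloc p hp, if_neg hpq]; simp
          · rfl
        rw [hsum]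
        apply tendsto_zero_of_supportDim_lt I hI.2
        rw [Module.supportDim_quotient_eq_ringKrullDim]
        exact lt_of_le_of_ne hq hqd
  · -- exact
    intro N₁ _ _ _ N₂ _ _ _ N₃ _ _ _ f g hf hg hfg h₁ h₃ hd
    obtain ⟨a1, b1, c1⟩ := h₁ ((Module.supportDim_le_of_injective f hf).trans hd)
    obtain ⟨a3, b3, c3⟩ := h₃ ((Module.supportDim_le_of_surjective g hg).trans hd)
    have hadd : ∀ p, locLen p N₂ = locLen p N₁ + locLen p N₃ := fun p =>
      locLen_exact p f g hf hg hfg
    refine ⟨fun p hp => ?_, ?_, ?_⟩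
    · rw [hadd p]
      exact WithTop.add_ne_top.mpr ⟨a1 p hp, a3 p hp⟩
    · refine (b1.union b3).subset ?_
      rintro p ⟨hp, hne⟩
      rw [hadd p] at hne
      by_contra hcon
      simp only [Set.mem_union, Set.mem_ofPred_eq, not_or, not_and, not_not] at hcon
      rw [hcon.1 hp, hcon.2 hp, add_zero] at hne
      exact hne rfl
    · set T : Set (PrimeSpectrum A) := {p | ringKrullDim (A ⧸ p.asIdeal) = d} with hT
      have hfin1 : (T ∩ Function.support fun p => ((locLen p N₁).toNat : ℝ) * e p).Finite := by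
        refine b1.subset ?_
        rintro p ⟨hp, hne⟩
        refine ⟨hp, fun h0 => hne ?_⟩
        simp [h0]
      have hfin3 : (T ∩ Function.support fun p => ((locLen p N₃).toNat : ℝ) * e p).Finite := by
        refine b3.subset ?_
        rintro p ⟨hp, hne⟩
        refine ⟨hp, fun h0 => hne ?_⟩
        simp [h0]
      have hsum := finsum_mem_add_distrib' hfin1 hfin3
      have hsum' : (∑ᶠ (p : PrimeSpectrum A) (_ : ringKrullDim (A ⧸ p.asIdeal) = d),
            ((locLen p N₂).toNat : ℝ) * e p) =
          (∑ᶠ (p : PrimeSpectrum A) (_ : ringKrullDim (A ⧸ p.asIdeal) = d),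
            ((locLen p N₁).toNat : ℝ) * e p) +
          ∑ᶠ (p : PrimeSpectrum A) (_ : ringKrullDim (A ⧸ p.asIdeal) = d),
            ((locLen p N₃).toNat : ℝ) * e p := by
        refine Eq.trans ?_ hsum
        apply finsum_congr
        intro p
        apply finsum_congr
        intro hp
        rw [hadd p, ENat.toNat_add (a1 p hp) (a3 p hp)]
        push_cast
        ring
      rw [hsum']
      exact Groth.Agent.S12211.result A I hI f g hf hg (LinearMap.exact_iff.mp hfg).symm d hd _ _
        c1 c3

end main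

end Groth.Agent.H17.HS
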