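import Groth.Agent.H17.HS.Rees
import Groth.Agent.H17.DimParam
import Mathlib.RingTheory.Nakayama
import Mathlib.RingTheory.Ideal.AssociatedPrime.Localization

set_option autoImplicit false

namespace Groth.Agent.H17.HS

open scoped Polynomial

universe u

variable {A : Type u} [CommRing A] [IsNoetherianRing A]

theorem isMaximal_of_jacobson_le [Finite (MaximalSpectrum A)] {p : Ideal A} [hp : p.IsPrime]
    (h : Ring.jacobson A ≤ p) : p.IsMaximal := by
  classical
  haveI : Fintype (MaximalSpectrum A) := Fintype.ofFinite _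
  have hjac : (Finset.univ : Finset (MaximalSpectrum A)).inf (fun m => m.asIdeal) ≤
      Ring.jacobson A := by
    rw [Ring.jacobson_eq_sInf_isMaximal]
    apply le_sInf
    intro I hI
    exact Finset.inf_le (f := fun m : MaximalSpectrum A => m.asIdeal)
      (Finset.mem_univ (⟨I, hI⟩ : MaximalSpectrum A))
  obtain ⟨m, -, hm⟩ := (Ideal.IsPrime.inf_le' hp).mp (hjac.trans h)
  rw [← m.isMaximal.eq_of_le hp.ne_top hm]
  exact m.isMaximal

variable (M : Type u) [AddCommGroup M] [Module A M] [Module.Finite A M]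

theorem isFiniteLength_quotient_jacobson_pow [Finite (MaximalSpectrum A)] (n : ℕ) :
    IsFiniteLength A (M ⧸ (Ring.jacobson A ^ n • ⊤ : Submodule A M)) := by
  rw [isFiniteLength_iff_supportDim_le_zero, Module.supportDim,
    Order.krullDim_nonpos_iff_forall_isMax]
  rintro ⟨x, hx⟩ ⟨y, hy⟩ hxy
  rw [Module.support_quotient] at hx
  have h1 : Ring.jacobson A ^ n ≤ x.asIdeal := hx.2
  have h2 : Ring.jacobson A ≤ x.asIdeal := Ideal.IsPrime.le_of_pow_le h1
  have hmax := isMaximal_of_jacobson_le h2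
  have hle : x.asIdeal ≤ y.asIdeal := hxy
  have := hmax.eq_of_le y.isPrime.ne_top hle
  change y.asIdeal ≤ x.asIdeal
  rw [this]

/-- the Samuel function of `M` with respect to the Jacobson radical -/
noncomputable def samuel (A : Type u) [CommRing A] (M : Type u) [AddCommGroup M] [Module A M]
    (n : ℕ) : ℕ :=
  (Module.length A (M ⧸ (Ring.jacobson A ^ n • ⊤ : Submodule A M))).toNat

theorem length_eq_samuel [Finite (MaximalSpectrum A)] (n : ℕ) :
    Module.length A (M ⧸ (Ring.jacobson A ^ n • ⊤ : Submodule A M)) = (samuel A M n : ℕ∞) :=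
  (ENat.natCast_toNat (Module.length_ne_top_iff.mpr (isFiniteLength_quotient_jacobson_pow M n))).symm

/-- `P` computes the Samuel function for large `n` -/
def IsSamuelPoly (A : Type u) [CommRing A] (M : Type u) [AddCommGroup M] [Module A M]
    (P : ℚ[X]) : Prop :=
  ∃ n₀ : ℕ, ∀ n, n₀ ≤ n → (samuel A M n : ℚ) = P.eval (n : ℚ)

theorem exists_isSamuelPoly [Finite (MaximalSpectrum A)] : ∃ P : ℚ[X], IsSamuelPoly A M P := by
  obtain ⟨P, n₀, hP⟩ := exists_samuel_poly (M := M) (Ring.jacobson A)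
    (fun n => Module.length_ne_top_iff.mpr (isFiniteLength_quotient_jacobson_pow M n))
  exact ⟨P, n₀, hP⟩

variable {M}

/-- Artin–Rees for an injective map -/
theorem exists_comap_pow_le (I : Ideal A) {M' : Type u} [AddCommGroup M'] [Module A M']
    (f : M' →ₗ[A] M) (hf : Function.Injective f) :
    ∃ k, ∀ n, k ≤ n → (I ^ n • ⊤ : Submodule A M).comap f ≤ I ^ (n - k) • ⊤ := by
  obtain ⟨k, hk⟩ := Ideal.exists_pow_inf_eq_pow_smul I (LinearMap.range f)
  refine ⟨k, fun n hn m' hm' => ?_⟩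
  have h1 : f m' ∈ I ^ n • ⊤ ⊓ LinearMap.range f := ⟨hm', ⟨m', rfl⟩⟩
  rw [hk n hn] at h1
  have h2 : f m' ∈ I ^ (n - k) • LinearMap.range f :=
    Submodule.smul_mono le_rfl inf_le_right h1
  rw [← Submodule.map_top, ← Submodule.map_smul''] at h2
  obtain ⟨m'', hm'', hmm⟩ := h2
  rw [← hf hmm]
  exact hm''

section ineq

variable [Finite (MaximalSpectrum A)]

theorem samuel_mono (n : ℕ) : samuel A M n ≤ samuel A M (n + 1) := by
  have h : (Ring.jacobson A ^ (n + 1) • ⊤ : Submodule A M) ≤ Ring.jacobson A ^ n • ⊤ :=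
    Submodule.smul_mono_left (Ideal.pow_le_pow_right (Nat.le_succ n))
  have := Module.length_le_of_surjective (Submodule.factor h) (Submodule.factor_surjective h)
  rw [length_eq_samuel, length_eq_samuel] at this
  exact_mod_cast this

theorem samuel_le_length (hfl : IsFiniteLength A M) (n : ℕ) :
    samuel A M n ≤ (Module.length A M).toNat := by
  have := Module.length_le_of_surjective (Submodule.mkQ (Ring.jacobson A ^ n • ⊤ : Submodule A M))
    (Submodule.mkQ_surjective _)
  rw [length_eq_samuel, ← ENat.natCast_toNat (Module.length_ne_top_iff.mpr hfl)] at this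
  exact_mod_cast this

theorem samuel_pos [Nontrivial M] {n : ℕ} (hn : 1 ≤ n) : 1 ≤ samuel A M n := by
  have hne : (Ring.jacobson A ^ n • ⊤ : Submodule A M) ≠ ⊤ := by
    intro h
    have hpow : Ring.jacobson A ^ n ≤ Ring.jacobson A := by
      have := Ideal.pow_le_pow_right (I := Ring.jacobson A) hn
      rwa [pow_one] at this
    have h3 : (Ring.jacobson A ^ n • ⊤ : Submodule A M) ≤ Ring.jacobson A • ⊤ :=
      Submodule.smul_mono_left hpow
    have hle : (⊤ : Submodule A M) ≤ Ring.jacobson A • ⊤ := by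
      intro m _
      exact h3 (h.symm ▸ Submodule.mem_top)
    have := Submodule.eq_bot_of_le_smul_of_le_jacobson_bot (Ring.jacobson A) (⊤ : Submodule A M)
      Module.Finite.fg_top hle (by rw [Ideal.jacobson_bot])
    exact top_ne_bot this
  haveI : Nontrivial (M ⧸ (Ring.jacobson A ^ n • ⊤ : Submodule A M)) :=
    Submodule.Quotient.nontrivial_iff.mpr hne
  have := Module.length_pos (R := A) (M := M ⧸ (Ring.jacobson A ^ n • ⊤ : Submodule A M))
  rw [length_eq_samuel] at this
  have h2 : 0 < samuel A M n := by exact_mod_cast this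
  omega

theorem samuel_sub_le {M' : Type u} [AddCommGroup M'] [Module A M'] [Module.Finite A M']
    (f : M' →ₗ[A] M) (hf : Function.Injective f) :
    ∃ k, ∀ n, k ≤ n → samuel A M' (n - k) ≤ samuel A M n := by
  obtain ⟨k, hk⟩ := exists_comap_pow_le (Ring.jacobson A) f hf
  refine ⟨k, fun n hn => ?_⟩
  set S := (Ring.jacobson A ^ n • ⊤ : Submodule A M).comap f with hS
  have hSle : S ≤ Ring.jacobson A ^ (n - k) • ⊤ := hk n hn
  have h1 := Module.length_le_of_surjective (Submodule.factor hSle)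
    (Submodule.factor_surjective hSle)
  let g : (M' ⧸ S) →ₗ[A] M ⧸ (Ring.jacobson A ^ n • ⊤ : Submodule A M) :=
    Submodule.mapQ S _ f le_rfl
  have hg : Function.Injective g := by
    rw [← LinearMap.ker_eq_bot, eq_bot_iff]
    intro y hy
    obtain ⟨m', rfl⟩ := Submodule.mkQ_surjective _ y
    rw [LinearMap.mem_ker] at hy
    have : (Submodule.mkQ _) (f m') = (0 : M ⧸ (Ring.jacobson A ^ n • ⊤ : Submodule A M)) := hy
    rw [Submodule.mkQ_apply, Submodule.Quotient.mk_eq_zero] at this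
    rw [Submodule.mem_bot, Submodule.mkQ_apply, Submodule.Quotient.mk_eq_zero]
    exact this
  have h2 := Module.length_le_of_injective g hg
  have h3 := h1.trans h2
  rw [length_eq_samuel, length_eq_samuel] at h3
  exact_mod_cast h3

theorem samuel_succ_le {x : A} (hx : x ∈ Ring.jacobson A) (n : ℕ) :
    samuel A M (n + 1) ≤
      samuel A M n + samuel A (M ⧸ (Ideal.span {x} • ⊤ : Submodule A M)) (n + 1) := by
  set r := Ring.jacobson A with hr
  let Y := M ⧸ (r ^ (n + 1) • ⊤ : Submodule A M)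
  let ψ : Y →ₗ[A] Y := LinearMap.lsmul A Y x
  have e0 := Module.length_eq_add_of_exact (LinearMap.range ψ).subtype (LinearMap.range ψ).mkQ
    (Submodule.subtype_injective _) (Submodule.mkQ_surjective _)
    (LinearMap.exact_subtype_mkQ _)
  -- (i)
  let φ : M →ₗ[A] Y := ψ ∘ₗ Submodule.mkQ _
  have hφ : (r ^ n • ⊤ : Submodule A M) ≤ LinearMap.ker φ := by
    rw [Submodule.smul_le]
    intro a ha m _
    rw [LinearMap.mem_ker]
    change x • (Submodule.mkQ (r ^ (n + 1) • ⊤ : Submodule A M)) (a • m) = 0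
    rw [← map_smul, Submodule.mkQ_apply, Submodule.Quotient.mk_eq_zero, smul_smul]
    refine Submodule.smul_mem_smul ?_ trivial
    rw [pow_succ']
    exact Ideal.mul_mem_mul hx ha
  let φ' : (M ⧸ (r ^ n • ⊤ : Submodule A M)) →ₗ[A] Y := Submodule.liftQ _ φ hφ
  have hφ'mem : ∀ c, φ' c ∈ LinearMap.range ψ := by
    intro c
    obtain ⟨m, rfl⟩ := Submodule.mkQ_surjective _ c
    exact ⟨Submodule.mkQ _ m, rfl⟩
  let g1 : (M ⧸ (r ^ n • ⊤ : Submodule A M)) →ₗ[A] LinearMap.range ψ :=
    LinearMap.codRestrict _ φ' hφ'mem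
  have hg1 : Function.Surjective g1 := by
    rintro ⟨_, ⟨y, rfl⟩⟩
    obtain ⟨m, rfl⟩ := Submodule.mkQ_surjective _ y
    exact ⟨Submodule.mkQ _ m, Subtype.ext rfl⟩
  have h1 := Module.length_le_of_surjective g1 hg1
  -- (ii)
  let π : M →ₗ[A] Y ⧸ LinearMap.range ψ := (LinearMap.range ψ).mkQ ∘ₗ Submodule.mkQ _
  have hπ1 : (Ideal.span {x} • ⊤ : Submodule A M) ≤ LinearMap.ker π := by
    rw [Submodule.smul_le]
    intro a ha m _
    obtain ⟨c, rfl⟩ := Ideal.mem_span_singleton'.mp ha
    rw [LinearMap.mem_ker]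
    change (LinearMap.range ψ).mkQ ((Submodule.mkQ _) ((c * x) • m)) = 0
    rw [Submodule.mkQ_apply (LinearMap.range ψ), Submodule.Quotient.mk_eq_zero]
    refine ⟨Submodule.mkQ (r ^ (n + 1) • ⊤ : Submodule A M) (c • m), ?_⟩
    change x • (Submodule.mkQ (r ^ (n + 1) • ⊤ : Submodule A M)) (c • m) = _
    rw [← map_smul, smul_smul, mul_comm]
  let π' : (M ⧸ (Ideal.span {x} • ⊤ : Submodule A M)) →ₗ[A] Y ⧸ LinearMap.range ψ :=
    Submodule.liftQ _ π hπ1
  have hπ2 : (r ^ (n + 1) • ⊤ : Submodule A (M ⧸ (Ideal.span {x} • ⊤ : Submodule A M))) ≤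
      LinearMap.ker π' := by
    rw [Submodule.smul_le]
    intro a ha m' _
    obtain ⟨m, rfl⟩ := Submodule.mkQ_surjective _ m'
    rw [LinearMap.mem_ker, ← map_smul]
    change (LinearMap.range ψ).mkQ ((Submodule.mkQ _) (a • m)) = 0
    have : (Submodule.mkQ (r ^ (n + 1) • ⊤ : Submodule A M)) (a • m) = 0 := by
      rw [Submodule.mkQ_apply, Submodule.Quotient.mk_eq_zero]
      exact Submodule.smul_mem_smul ha trivial
    rw [this, map_zero]
  let π'' := Submodule.liftQ _ π' hπ2
  have hπ'' : Function.Surjective π'' := by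
    intro y
    obtain ⟨y', rfl⟩ := Submodule.mkQ_surjective _ y
    obtain ⟨m, rfl⟩ := Submodule.mkQ_surjective _ y'
    exact ⟨Submodule.mkQ _ (Submodule.mkQ _ m), rfl⟩
  have h2 := Module.length_le_of_surjective π'' hπ''
  have h3 : Module.length A Y ≤ Module.length A (M ⧸ (r ^ n • ⊤ : Submodule A M)) +
      Module.length A ((M ⧸ (Ideal.span {x} • ⊤ : Submodule A M)) ⧸
        (r ^ (n + 1) • ⊤ : Submodule A (M ⧸ (Ideal.span {x} • ⊤ : Submodule A M)))) := by
    rw [e0]
    exact add_le_add h1 h2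
  rw [length_eq_samuel, length_eq_samuel, length_eq_samuel] at h3
  exact_mod_cast h3

theorem samuel_quot_regular_le {x : A} (hx : ∀ m : M, x • m = 0 → m = 0) :
    ∃ k, ∀ n, k ≤ n →
      samuel A (M ⧸ (Ideal.span {x} • ⊤ : Submodule A M)) n + samuel A M (n - k) ≤
        samuel A M n := by
  set r := Ring.jacobson A with hr
  let f : M →ₗ[A] M := LinearMap.lsmul A M x
  have hf : Function.Injective f := by
    rw [← LinearMap.ker_eq_bot, eq_bot_iff]
    intro m hm
    exact hx m hm
  obtain ⟨k, hk⟩ := exists_comap_pow_le r f hf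
  refine ⟨k, fun n hn => ?_⟩
  let Y := M ⧸ (r ^ n • ⊤ : Submodule A M)
  let ψ : Y →ₗ[A] Y := LinearMap.lsmul A Y x
  have e0 := Module.length_eq_add_of_exact (LinearMap.range ψ).subtype (LinearMap.range ψ).mkQ
    (Submodule.subtype_injective _) (Submodule.mkQ_surjective _)
    (LinearMap.exact_subtype_mkQ _)
  -- (i)
  let σ : M →ₗ[A] (M ⧸ (Ideal.span {x} • ⊤ : Submodule A M)) ⧸
      (r ^ n • ⊤ : Submodule A (M ⧸ (Ideal.span {x} • ⊤ : Submodule A M))) :=
    Submodule.mkQ _ ∘ₗ Submodule.mkQ _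
  have hσ1 : (r ^ n • ⊤ : Submodule A M) ≤ LinearMap.ker σ := by
    rw [Submodule.smul_le]
    intro a ha m _
    rw [LinearMap.mem_ker]
    change Submodule.mkQ _ (Submodule.mkQ _ (a • m)) = 0
    rw [map_smul, Submodule.mkQ_apply, Submodule.Quotient.mk_eq_zero]
    exact Submodule.smul_mem_smul ha trivial
  let σ' := Submodule.liftQ _ σ hσ1
  have hσ2 : LinearMap.range ψ ≤ LinearMap.ker σ' := by
    rintro _ ⟨y, rfl⟩
    obtain ⟨m, rfl⟩ := Submodule.mkQ_surjective _ y
    rw [LinearMap.mem_ker]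
    change σ' (x • Submodule.mkQ _ m) = 0
    rw [← map_smul]
    change Submodule.mkQ _ (Submodule.mkQ _ (x • m)) = 0
    have : (Submodule.mkQ (Ideal.span {x} • ⊤ : Submodule A M)) (x • m) = 0 := by
      rw [Submodule.mkQ_apply, Submodule.Quotient.mk_eq_zero]
      exact Submodule.smul_mem_smul (Ideal.mem_span_singleton_self x) trivial
    rw [this, map_zero]
  let σ'' := Submodule.liftQ _ σ' hσ2
  have hσ'' : Function.Surjective σ'' := by
    intro y
    obtain ⟨y', rfl⟩ := Submodule.mkQ_surjective _ y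
    obtain ⟨m, rfl⟩ := Submodule.mkQ_surjective _ y'
    exact ⟨Submodule.mkQ _ (Submodule.mkQ _ m), rfl⟩
  have h1 := Module.length_le_of_surjective σ'' hσ''
  -- (ii)
  let φ : M →ₗ[A] Y := ψ ∘ₗ Submodule.mkQ _
  have hkerφ : LinearMap.ker φ ≤ r ^ (n - k) • ⊤ := by
    intro m hm
    apply hk n hn
    rw [Submodule.mem_comap]
    rw [LinearMap.mem_ker] at hm
    have : x • (Submodule.mkQ (r ^ n • ⊤ : Submodule A M)) m = 0 := hm
    rw [← map_smul, Submodule.mkQ_apply, Submodule.Quotient.mk_eq_zero] at this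
    exact this
  have h2 := Module.length_le_of_surjective (Submodule.factor hkerφ)
    (Submodule.factor_surjective hkerφ)
  have h3 : Module.length A (M ⧸ LinearMap.ker φ) = Module.length A (LinearMap.range φ) :=
    (LinearMap.quotKerEquivRange φ).length_eq
  have hle : LinearMap.range φ ≤ LinearMap.range ψ := by
    rintro _ ⟨m, rfl⟩
    exact ⟨Submodule.mkQ _ m, rfl⟩
  have h4 := Module.length_le_of_injective (Submodule.inclusion hle)
    (Submodule.inclusion_injective hle)
  have h5 : Module.length A ((M ⧸ (Ideal.span {x} • ⊤ : Submodule A M)) ⧸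
        (r ^ n • ⊤ : Submodule A (M ⧸ (Ideal.span {x} • ⊤ : Submodule A M)))) +
      Module.length A (M ⧸ (r ^ (n - k) • ⊤ : Submodule A M)) ≤ Module.length A Y := by
    rw [e0, add_comm (Module.length A (LinearMap.range ψ))]
    exact add_le_add h1 (h2.trans (h3.le.trans h4))
  rw [length_eq_samuel, length_eq_samuel, length_eq_samuel] at h5
  exact_mod_cast h5

end ineq

end Groth.Agent.H17.HS
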