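import Groth.Agent.H17.HS.Serre

/-!
# Hilbert–Serre for additive functions with values in an abelian group

For an additive function `L` on Noetherian `A`-modules with values in an abelian group `G`,
and a finitely generated graded module `N = ⊕ 𝒩 n` over a ring generated by finitely many
elements of degree one, the function `n ↦ L (𝒩 n)` is a numerical polynomial
`∑ i < r, C(n, i) • a i` for large `n`.
-/

set_option autoImplicit false

namespace Groth.Agent.H17.HS

universe v w

section numpoly

variable {G : Type w} [AddCommGroup G]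

/-- the value at `n` of the numerical polynomial with coefficients `a 0, …, a (r-1)` -/
def npf (r : ℕ) (a : ℕ → G) (n : ℕ) : G := ∑ i ∈ Finset.range r, (n.choose i : ℤ) • a i

theorem npf_extend {r R : ℕ} (h : r ≤ R) (a : ℕ → G) (n : ℕ) :
    npf r a n = npf R (fun i => if i < r then a i else 0) n := by
  unfold npf
  rw [← Finset.sum_subset (Finset.range_subset_range.mpr h)]
  · refine Finset.sum_congr rfl fun i hi => ?_
    beta_reduce
    rw [if_pos (Finset.mem_range.mp hi)]
  · intro i _ hi
    beta_reduce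
    rw [if_neg (by simpa using hi), smul_zero]

theorem npf_add (r : ℕ) (a b : ℕ → G) (n : ℕ) : npf r a n + npf r b n = npf r (a + b) n := by
  unfold npf
  rw [← Finset.sum_add_distrib]
  refine Finset.sum_congr rfl fun i _ => ?_
  rw [Pi.add_apply, smul_add]

theorem npf_neg (r : ℕ) (a : ℕ → G) (n : ℕ) : -npf r a n = npf r (-a) n := by
  unfold npf
  rw [← Finset.sum_neg_distrib]
  refine Finset.sum_congr rfl fun i _ => ?_
  rw [Pi.neg_apply, smul_neg]

theorem npf_shift (r : ℕ) (a : ℕ → G) (n : ℕ) :
    npf (r + 1) a (n + 1) = npf (r + 1) a n + npf r (fun i => a (i + 1)) n := by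
  unfold npf
  rw [Finset.sum_range_succ' _ r, Finset.sum_range_succ' _ r]
  simp only [Nat.choose_zero_right, Nat.choose_succ_succ', Nat.cast_add, add_smul]
  rw [Finset.sum_add_distrib]
  abel

/-- `f` agrees with a numerical polynomial for large `n` -/
def IsNumPoly (f : ℕ → G) : Prop :=
  ∃ (r : ℕ) (a : ℕ → G) (N : ℕ), ∀ n, N ≤ n → f n = npf r a n

theorem isNumPoly_of_eventually_zero {f : ℕ → G} (N : ℕ) (h : ∀ n, N ≤ n → f n = 0) :
    IsNumPoly f :=
  ⟨0, fun _ => 0, N, fun n hn => by rw [h n hn]; simp [npf]⟩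

theorem IsNumPoly.sub {f g : ℕ → G} (hf : IsNumPoly f) (hg : IsNumPoly g) :
    IsNumPoly (fun n => f n - g n) := by
  obtain ⟨r, a, N, hf⟩ := hf
  obtain ⟨s, b, N', hg⟩ := hg
  refine ⟨max r s, (fun i => if i < r then a i else 0) + -(fun i => if i < s then b i else 0),
    max N N', fun n hn => ?_⟩
  beta_reduce
  rw [hf n (le_trans (le_max_left _ _) hn), hg n (le_trans (le_max_right _ _) hn),
    npf_extend (le_max_left r s) a, npf_extend (le_max_right r s) b, sub_eq_add_neg, npf_neg,
    npf_add]

theorem IsNumPoly.shift {f : ℕ → G} (hf : IsNumPoly f) : IsNumPoly (fun n => f (n + 1)) := by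
  obtain ⟨r, a, N, hf⟩ := hf
  set a' : ℕ → G := fun i => if i < r then a i else 0 with ha'
  refine ⟨r + 1, a' + (fun i => if i < r then a' (i + 1) else 0), N, fun n hn => ?_⟩
  beta_reduce
  rw [hf (n + 1) (by omega), npf_extend (Nat.le_succ r) a, npf_shift, ← npf_add,
    ← npf_extend (Nat.le_succ r) (fun i => a' (i + 1))]

/-- a function whose difference is a numerical polynomial is a numerical polynomial -/
theorem IsNumPoly.of_diff {f : ℕ → G} (h : IsNumPoly (fun n => f (n + 1) - f n)) :
    IsNumPoly f := by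
  obtain ⟨r, a, N, h⟩ := h
  set b' : ℕ → G := fun i => if i = 0 then 0 else a (i - 1) with hb'
  set c : G := f N - npf (r + 1) b' N with hc
  set b : ℕ → G := fun i => if i = 0 then c else a (i - 1) with hb
  have hb_succ : (fun i => b (i + 1)) = a := by
    funext i
    simp [hb]
  have hval : ∀ n, npf (r + 1) b n = c + npf (r + 1) b' n := by
    intro n
    unfold npf
    rw [Finset.sum_range_succ' _ r, Finset.sum_range_succ' _ r]
    simp [hb, hb', add_comm]
  refine ⟨r + 1, b, N, fun n hn => ?_⟩
  induction n, hn using Nat.le_induction with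
  | base => rw [hval, hc]; abel
  | succ n hn ih =>
    have h1 := h n hn
    beta_reduce at h1
    rw [npf_shift, hb_succ, ← h1, ← ih]
    abel

end numpoly

/-- an additive function on Noetherian `A`-modules with values in an abelian group -/
structure AddFun (A : Type*) [CommRing A] (G : Type w) [AddCommGroup G] where
  /-- the value on a module -/
  val : ∀ (N : Type v) [AddCommGroup N] [Module A N], G
  additive : ∀ {N₁ N₂ N₃ : Type v} [AddCommGroup N₁] [Module A N₁] [AddCommGroup N₂]
    [Module A N₂] [AddCommGroup N₃] [Module A N₃] (f : N₁ →ₗ[A] N₂) (g : N₂ →ₗ[A] N₃),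
    Function.Injective f → Function.Surjective g → Function.Exact f g → IsNoetherian A N₂ →
    val N₂ = val N₁ + val N₃

section addfun

variable {A : Type*} [CommRing A] {G : Type w} [AddCommGroup G] (L : AddFun.{v, w} A G)

theorem AddFun.val_subsingleton (N : Type v) [AddCommGroup N] [Module A N] [Subsingleton N] :
    L.val N = 0 := by
  have : IsNoetherian A N := isNoetherian_of_finite A N
  have := L.additive (LinearMap.id : N →ₗ[A] N) (0 : N →ₗ[A] N)
    (fun _ _ h => h) (fun y => ⟨y, Subsingleton.elim _ _⟩)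
    (fun y => ⟨fun _ => ⟨y, rfl⟩, fun _ => Subsingleton.elim _ _⟩) inferInstance
  have h2 : L.val N + 0 = L.val N + L.val N := by rw [add_zero]; exact this
  exact (add_left_cancel h2).symm

variable {B : Type*} [CommRing B] [Algebra A B] {N : Type v} [AddCommGroup N] [Module A N]
  [Module B N] [IsScalarTower A B N] {a : B} {𝒩 : ℕ → Submodule A N}

theorem isNoetherian_kerGr (n : ℕ) [IsNoetherian A (𝒩 n)] : IsNoetherian A (kerGr a 𝒩 n) := by
  let ι₁ : kerGr a 𝒩 n →ₗ[A] 𝒩 n :=
    LinearMap.restrict ((kerSub N a).subtype.restrictScalars A) (p := kerGr a 𝒩 n) (q := 𝒩 n)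
      (fun y hy => hy)
  have hι₁ : Function.Injective ι₁ := by
    intro x y hxy
    apply Subtype.ext; apply Subtype.ext
    exact congrArg (fun t : 𝒩 n => (t : N)) hxy
  exact isNoetherian_of_injective ι₁ hι₁

theorem isNoetherian_cokGr (n : ℕ) [IsNoetherian A (𝒩 n)] : IsNoetherian A (cokGr a 𝒩 n) := by
  let g₂ : 𝒩 n →ₗ[A] cokGr a 𝒩 n :=
    LinearMap.restrict ((ranSub N a).mkQ.restrictScalars A) (p := 𝒩 n)
      (q := cokGr a 𝒩 n) (fun y hy => Submodule.mem_map_of_mem hy)
  have hg₂ : Function.Surjective g₂ := by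
    rintro ⟨l, hl⟩
    obtain ⟨y, hy, rfl⟩ := Submodule.mem_map.mp hl
    exact ⟨⟨y, hy⟩, Subtype.ext rfl⟩
  exact isNoetherian_of_surjective g₂ (LinearMap.range_eq_top.mpr hg₂)

/-- the key additivity relation in the Hilbert–Serre induction -/
theorem addFun_step (h : IsGrading 𝒩) (ha : ∀ n, ∀ y ∈ 𝒩 n, a • y ∈ 𝒩 (n + 1)) (n : ℕ)
    [IsNoetherian A (𝒩 n)] [IsNoetherian A (𝒩 (n + 1))] :
    L.val (𝒩 (n + 1)) + L.val (kerGr a 𝒩 n) = L.val (𝒩 n) + L.val (cokGr a 𝒩 (n + 1)) := by
  classical
  let μ : 𝒩 n →ₗ[A] 𝒩 (n + 1) :=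
    LinearMap.restrict ((LinearMap.lsmul B N a).restrictScalars A) (fun y hy => ha n y hy)
  have hμ : ∀ y : 𝒩 n, ((μ y : 𝒩 (n + 1)) : N) = a • (y : N) := fun y => rfl
  -- first sequence
  let ι₁ : kerGr a 𝒩 n →ₗ[A] 𝒩 n :=
    LinearMap.restrict ((kerSub N a).subtype.restrictScalars A) (p := kerGr a 𝒩 n) (q := 𝒩 n)
      (fun y hy => hy)
  have hι₁ : Function.Injective ι₁ := by
    intro x y hxy
    apply Subtype.ext; apply Subtype.ext
    exact congrArg (fun t : 𝒩 n => (t : N)) hxy
  have hex₁ : Function.Exact ι₁ μ.rangeRestrict := by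
    intro y
    constructor
    · intro hy
      have hy' : a • (y : N) = 0 := by
        have := congrArg (fun t : LinearMap.range μ => ((t : 𝒩 (n + 1)) : N)) hy
        simpa [hμ] using this
      exact ⟨⟨⟨y.1, mem_kerSub.mpr hy'⟩, y.2⟩, Subtype.ext rfl⟩
    · rintro ⟨k, rfl⟩
      apply Subtype.ext; apply Subtype.ext
      change a • ((k : kerSub N a) : N) = 0
      exact mem_kerSub.mp k.1.2
  have e₁ := L.additive ι₁ μ.rangeRestrict hι₁ μ.surjective_rangeRestrict hex₁ inferInstance
  -- second sequence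
  let g₂ : 𝒩 (n + 1) →ₗ[A] cokGr a 𝒩 (n + 1) :=
    LinearMap.restrict ((ranSub N a).mkQ.restrictScalars A) (p := 𝒩 (n + 1))
      (q := cokGr a 𝒩 (n + 1)) (fun y hy => Submodule.mem_map_of_mem hy)
  have hg₂ : Function.Surjective g₂ := by
    rintro ⟨l, hl⟩
    obtain ⟨y, hy, rfl⟩ := Submodule.mem_map.mp hl
    exact ⟨⟨y, hy⟩, Subtype.ext rfl⟩
  have hex₂ : Function.Exact (LinearMap.range μ).subtype g₂ := by
    intro y
    constructor
    · intro hy
      have hy' : (y : N) ∈ ranSub N a := by
        have h2 : (ranSub N a).mkQ (y : N) = 0 := congrArg Subtype.val hy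
        rwa [Submodule.mkQ_apply, Submodule.Quotient.mk_eq_zero] at h2
      obtain ⟨z, hz⟩ := mem_ranSub.mp hy'
      have hsum : a • z = ∑ k ∈ Finset.range (n + 2), (if k = n + 1 then (y : N) else 0) := by
        rw [Finset.sum_ite_eq' (Finset.range (n + 2)) (n + 1) (fun _ => (y : N)),
          if_pos (Finset.mem_range.mpr (by omega)), hz]
      obtain ⟨w, hw, hyw⟩ := smul_decomp h ha (y := fun k => if k = n + 1 then (y : N) else 0)
        (fun k => by
          by_cases hk : k = n + 1
          · subst hk; simp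
          · simp [hk]) hsum (n + 1) (by omega)
      simp only [if_true] at hyw
      refine ⟨⟨μ ⟨w, hw n rfl⟩, ⟨_, rfl⟩⟩, ?_⟩
      apply Subtype.ext
      change a • w = y
      exact hyw.symm
    · rintro ⟨⟨_, ⟨k, rfl⟩⟩, rfl⟩
      apply Subtype.ext
      change (ranSub N a).mkQ (a • (k : N)) = 0
      rw [Submodule.mkQ_apply, Submodule.Quotient.mk_eq_zero]
      exact mem_ranSub.mpr ⟨_, rfl⟩
  have e₂ := L.additive (LinearMap.range μ).subtype g₂
    (Submodule.subtype_injective _) hg₂ hex₂ inferInstance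
  rw [e₁, e₂]
  abel

end addfun

section main

variable {A : Type*} [CommRing A] {G : Type w} [AddCommGroup G] (L : AddFun.{v, w} A G)
  {B : Type*} [CommRing B] [Algebra A B]

/-- **Hilbert–Serre for additive functions.** -/
theorem hilbert_serre_addFun [IsNoetherianRing B] (S : Finset B) :
    ∀ {N : Type v} [AddCommGroup N] [Module A N] [Module B N] [IsScalarTower A B N]
      [Module.Finite B N] (J : Ideal B) (_hJ : ∀ b ∈ J, ∀ y : N, b • y = 0)
      (_hgen : ∀ b : B, ∃ p ∈ Algebra.adjoin A (S : Set B), b - p ∈ J)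
      (𝒩 : ℕ → Submodule A N) (_hgr : IsGrading 𝒩)
      (_hS : ∀ b ∈ S, ∀ n, ∀ y ∈ 𝒩 n, b • y ∈ 𝒩 (n + 1))
      (_hfin : ∀ n, IsNoetherian A (𝒩 n)),
      IsNumPoly (fun n => L.val (𝒩 n)) := by
  classical
  induction S using Finset.induction_on with
  | empty =>
    intro N _ _ _ _ _ J hJ hgen 𝒩 hgr hS hfin
    have hact : ∀ (b : B) (y : N), ∃ c : A, b • y = c • y := by
      intro b y
      obtain ⟨p, hp, hbp⟩ := hgen b
      rw [Finset.coe_empty, Algebra.adjoin_empty, Algebra.mem_bot] at hp
      obtain ⟨c, rfl⟩ := hp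
      refine ⟨c, ?_⟩
      have := hJ _ hbp y
      rw [sub_smul, sub_eq_zero, algebraMap_smul] at this
      exact this
    obtain ⟨T, hT⟩ := (Module.Finite.fg_top : (⊤ : Submodule B N).FG)
    choose mf ff hff hyf using hgr.exists_sum
    set m := T.sup mf with hm
    have hall : ∀ y : N, ∃ f : ℕ → N, (∀ n, f n ∈ 𝒩 n) ∧ y = ∑ n ∈ Finset.range m, f n := by
      intro y
      have hy : y ∈ Submodule.span B (T : Set N) := hT ▸ Submodule.mem_top
      induction hy using Submodule.span_induction with
      | mem y hy =>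
        refine ⟨fun n => if n < mf y then ff y n else 0, fun n => ?_, ?_⟩
        · beta_reduce
          split_ifs
          · exact hff y n
          · exact Submodule.zero_mem _
        · rw [sum_range_ite_lt (ff y) (Finset.le_sup (f := mf) hy)]
          exact hyf y
      | zero => exact ⟨fun _ => 0, fun n => Submodule.zero_mem _, by simp⟩
      | add y z _ _ hy hz =>
        obtain ⟨f, hf, rfl⟩ := hy
        obtain ⟨g, hg, rfl⟩ := hz
        exact ⟨fun n => f n + g n, fun n => Submodule.add_mem _ (hf n) (hg n),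
          Finset.sum_add_distrib.symm⟩
      | smul b y _ hy =>
        obtain ⟨f, hf, hyf'⟩ := hy
        obtain ⟨c, hc⟩ := hact b y
        refine ⟨fun n => c • f n, fun n => Submodule.smul_mem _ _ (hf n), ?_⟩
        rw [hc, hyf', Finset.smul_sum]
    refine isNumPoly_of_eventually_zero m fun n hn => ?_
    have hbot : 𝒩 n = ⊥ := by
      rw [eq_bot_iff]
      intro y hy
      obtain ⟨f, hf, hyf'⟩ := hall y
      have hsum : ∑ k ∈ Finset.range m, f k =
          ∑ k ∈ Finset.range (n + 1), (if k = n then y else 0) := by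
        rw [Finset.sum_ite_eq' (Finset.range (n + 1)) n (fun _ => y),
          if_pos (Finset.mem_range.mpr (by omega)), ← hyf']
      have := hgr.eq_of_sum_eq hf (g := fun k => if k = n then y else 0) (fun k => by
        by_cases hk : k = n
        · subst hk; simp [hy]
        · simp [hk]) hsum n
      rw [if_neg (by omega), if_pos (by omega), if_pos rfl] at this
      rw [← this]
      exact Submodule.zero_mem _
    have : Subsingleton (𝒩 n) := by
      rw [hbot]
      infer_instance
    exact L.val_subsingleton _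
  | insert a S' haS ih =>
    intro N _ _ _ _ _ J hJ hgen 𝒩 hgr hS hfin
    have ha : ∀ n, ∀ y ∈ 𝒩 n, a • y ∈ 𝒩 (n + 1) := hS a (Finset.mem_insert_self a S')
    have : IsNoetherian B N := isNoetherian_of_isNoetherianRing_of_finite B N
    set J' := J ⊔ Ideal.span {a} with hJ'
    have hgen' : ∀ b : B, ∃ p ∈ Algebra.adjoin A (S' : Set B), b - p ∈ J' := by
      intro b
      obtain ⟨p, hp, hbp⟩ := hgen b
      rw [Finset.coe_insert] at hp
      obtain ⟨p', hp', hpp'⟩ := adjoin_insert_sub_mem hp
      refine ⟨p', hp', ?_⟩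
      have : b - p' = (b - p) + (p - p') := by ring
      rw [this]
      exact Ideal.add_mem _ (Ideal.mem_sup_left hbp) (Ideal.mem_sup_right hpp')
    -- the kernel
    have hK := ih (N := kerSub N a) J'
      (by
        intro b hb y
        obtain ⟨j, hj, c, hc, rfl⟩ := Submodule.mem_sup.mp hb
        obtain ⟨c', rfl⟩ := Ideal.mem_span_singleton'.mp hc
        apply Subtype.ext
        have h1 : j • (y : N) = 0 := hJ j hj _
        have h2 : a • (y : N) = 0 := mem_kerSub.mp y.2
        simp [add_smul, mul_smul, h1, h2])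
      hgen' (kerGr a 𝒩) (isGrading_kerGr hgr ha)
      (by
        intro b hb n y hy
        exact hS b (Finset.mem_insert_of_mem hb) n _ hy)
      (fun n => haveI := hfin n; isNoetherian_kerGr n)
    -- the cokernel
    have hC := ih (N := N ⧸ ranSub N a) J'
      (by
        intro b hb l
        obtain ⟨y, rfl⟩ := Submodule.mkQ_surjective _ l
        obtain ⟨j, hj, c, hc, rfl⟩ := Submodule.mem_sup.mp hb
        obtain ⟨c', rfl⟩ := Ideal.mem_span_singleton'.mp hc
        rw [← map_smul, Submodule.mkQ_apply, Submodule.Quotient.mk_eq_zero]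
        rw [add_smul, hJ j hj, zero_add, mul_comm, mul_smul]
        exact mem_ranSub.mpr ⟨_, rfl⟩)
      hgen' (cokGr a 𝒩) (isGrading_cokGr hgr ha)
      (by
        intro b hb n l hl
        obtain ⟨y, hy, rfl⟩ := Submodule.mem_map.mp hl
        have : b • ((ranSub N a).mkQ.restrictScalars A) y =
            ((ranSub N a).mkQ.restrictScalars A) (b • y) := by
          simp
        rw [this]
        exact Submodule.mem_map_of_mem (hS b (Finset.mem_insert_of_mem hb) n y hy))
      (fun n => haveI := hfin n; isNoetherian_cokGr n)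
    -- the difference equation
    apply IsNumPoly.of_diff
    have hd := (hC.shift).sub hK
    obtain ⟨r, c, N₀, hd⟩ := hd
    refine ⟨r, c, N₀, fun n hn => ?_⟩
    rw [← hd n hn]
    have := hfin n
    have := hfin (n + 1)
    have h1 := addFun_step L hgr ha n
    beta_reduce
    rw [sub_eq_sub_iff_add_eq_add]
    rw [h1]
    abel

end main

end Groth.Agent.H17.HS
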