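import Groth.Agent.H17.HS.Limit

set_option autoImplicit false

namespace Groth.Agent.H17.HS

universe u

open Filter Topology Polynomial

section top

variable {R : Type u} [CommRing R] [IsNoetherianRing R] [IsLocalRing R]

theorem one_le_locLen_self (p : PrimeSpectrum R) : 1 ≤ locLen p R := by
  unfold locLen
  rw [Order.one_le_iff_ne_zero, Ne, Module.length_eq_zero_iff, LocalizedModule.subsingleton_iff]
  intro h
  obtain ⟨r, hr, h0⟩ := h 1
  apply hr
  have : r = 0 := by simpa using h0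
  rw [this]
  exact Ideal.zero_mem _

theorem ncard_topPrimes_le_length (d : ℕ) (hd : ringKrullDim R = d) (g : Fin d → R)
    (hg : ∀ i, g i ∈ IsLocalRing.maximalIdeal R)
    (hsop : IsLocalRing.maximalIdeal R ≤ (Ideal.span (Set.range g)).radical) :
    (Set.ncard {p : Ideal R | p ∈ minimalPrimes R ∧ ringKrullDim (R ⧸ p) = d} : ℕ∞) ≤
      Module.length R (R ⧸ Ideal.span (Set.range g)) := by
  classical
  set I : Ideal R := Ideal.span (Set.range g) with hIdef
  have hI1 : I ≤ IsLocalRing.maximalIdeal R := by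
    rw [hIdef, Ideal.span_le]
    rintro _ ⟨i, rfl⟩
    exact hg i
  have hI2 : ∃ n : ℕ, IsLocalRing.maximalIdeal R ^ n ≤ I :=
    Ideal.exists_pow_le_of_le_radical_of_fg hsop (IsNoetherian.noetherian _)
  -- the length on the right
  have hquot : Module.length R (R ⧸ I) = Module.length R (R ⧸ (I • ⊤ : Submodule R R)) := by
    have : (I • ⊤ : Submodule R R) = I := by
      rw [smul_eq_mul, Ideal.mul_top]
    rw [this]
  rw [hquot]
  by_cases hfin : Module.length R (R ⧸ (I • ⊤ : Submodule R R)) = ⊤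
  · rw [hfin]; exact le_top
  -- the limits for the quotients by primes
  have hex : ∀ p : PrimeSpectrum R, ringKrullDim (R ⧸ p.asIdeal) = d →
      ∃ (P : ℚ[X]) (n₀ : ℕ), P.natDegree ≤ d ∧
        ∀ t, n₀ ≤ t → ((chi I (R ⧸ p.asIdeal) t).toNat : ℚ) = P.eval (t : ℚ) := fun p hp =>
    exists_chi_poly I hI2 (R ⧸ p.asIdeal) d
      (by rw [Module.supportDim_quotient_eq_ringKrullDim, hp])
  let e : PrimeSpectrum R → ℝ := fun p =>
    if hp : ringKrullDim (R ⧸ p.asIdeal) = d then
      (d.factorial : ℝ) * (((Classical.choose (hex p hp)).coeff d : ℚ) : ℝ) else 0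
  have he : ∀ p : PrimeSpectrum R, ringKrullDim (R ⧸ p.asIdeal) = d →
      Tendsto (fun t : ℕ => (d.factorial : ℝ) *
        ((chi I (R ⧸ p.asIdeal) t).toNat : ℝ) / (t : ℝ) ^ d) atTop (𝓝 (e p)) := by
    intro p hp
    obtain ⟨n₀, hdeg, hP⟩ := Classical.choose_spec (hex p hp)
    simp only [e, dif_pos hp]
    exact tendsto_chi I hI2 _ d _ n₀ hdeg hP
  have he1 : ∀ p : PrimeSpectrum R, ringKrullDim (R ⧸ p.asIdeal) = d → 1 ≤ e p := by
    intro p hp
    obtain ⟨n₀, hdeg, hP⟩ := Classical.choose_spec (hex p hp)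
    simp only [e, dif_pos hp]
    haveI : Nontrivial (R ⧸ p.asIdeal) := Ideal.Quotient.nontrivial_iff.mpr p.isPrime.ne_top
    exact one_le_mult I hI1 hI2 (R ⧸ p.asIdeal) d
      (by rw [Module.supportDim_quotient_eq_ringKrullDim, hp]) _ n₀ hdeg hP
  -- the sum formula
  have hdR : Module.supportDim R R ≤ d := by
    rw [Module.supportDim_self_eq_ringKrullDim, hd]
  obtain ⟨ha, hb, hc⟩ := good_of_supportDim_le I ⟨hI1, hI2⟩ d e he R hdR
  obtain ⟨PR, n₀, hdegR, hPR⟩ := exists_chi_poly I hI2 R d hdR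
  have hlimR := tendsto_chi I hI2 R d PR n₀ hdegR hPR
  have heq := tendsto_nhds_unique hlimR hc
  have hle := mult_le_length g R hfin _ hlimR
  rw [heq] at hle
  -- finiteness of the set of top primes
  set T : Set (PrimeSpectrum R) := {p | ringKrullDim (R ⧸ p.asIdeal) = d} with hT
  have hTfin : T.Finite := by
    refine hb.subset ?_
    intro p hp
    refine ⟨hp, ?_⟩
    have := one_le_locLen_self p
    exact (Order.one_le_iff_ne_zero.mp this)
  have hsum : (T.ncard : ℝ) ≤ ∑ᶠ (p : PrimeSpectrum R) (_ : ringKrullDim (R ⧸ p.asIdeal) = d),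
      ((locLen p R).toNat : ℝ) * e p := by
    have h1 : (∑ᶠ (p : PrimeSpectrum R) (_ : ringKrullDim (R ⧸ p.asIdeal) = d),
        ((locLen p R).toNat : ℝ) * e p) =
        ∑ p ∈ hTfin.toFinset, ((locLen p R).toNat : ℝ) * e p :=
      finsum_mem_eq_finite_toFinset_sum _ hTfin
    rw [h1, Set.ncard_eq_toFinset_card T hTfin, Finset.card_eq_sum_ones]
    push_cast
    apply Finset.sum_le_sum
    intro p hp
    have hpT : ringKrullDim (R ⧸ p.asIdeal) = d := (Set.Finite.mem_toFinset hTfin).mp hp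
    have h2 : 1 ≤ (locLen p R).toNat := by
      have h3 := one_le_locLen_self p
      have h4 := ENat.toNat_le_toNat h3 (ha p hpT)
      simpa using h4
    have h2' : (1 : ℝ) ≤ ((locLen p R).toNat : ℝ) := by exact_mod_cast h2
    calc (1 : ℝ) = 1 * 1 := by ring
      _ ≤ ((locLen p R).toNat : ℝ) * e p :=
        mul_le_mul h2' (he1 p hpT) zero_le_one (le_trans zero_le_one h2')
  -- compare the two sets
  have hsub : {p : Ideal R | p ∈ minimalPrimes R ∧ ringKrullDim (R ⧸ p) = d} ⊆
      PrimeSpectrum.asIdeal '' T := by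
    rintro p ⟨hpmin, hpd⟩
    exact ⟨⟨p, hpmin.1.1⟩, hpd, rfl⟩
  have hcard : Set.ncard {p : Ideal R | p ∈ minimalPrimes R ∧ ringKrullDim (R ⧸ p) = d} ≤
      T.ncard :=
    (Set.ncard_le_ncard hsub (hTfin.image _)).trans (Set.ncard_image_le hTfin)
  have hfinal : (T.ncard : ℝ) ≤
      ((Module.length R (R ⧸ (I • ⊤ : Submodule R R))).toNat : ℝ) := hsum.trans hle
  have hfinal' : T.ncard ≤ (Module.length R (R ⧸ (I • ⊤ : Submodule R R))).toNat := by
    exact_mod_cast hfinal
  rw [← ENat.natCast_toNat hfin]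
  exact_mod_cast hcard.trans hfinal'

end top

end Groth.Agent.H17.HS
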